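import Mathlib

/-!
# Uniform bounds on the class numbers of all subgroups

`MaxK X B` says that every subgroup of `X` has at most `B` classes. It passes to subgroups and
quotients, and is multiplicative along a normal subgroup.
-/

set_option autoImplicit false

namespace CfsgLib.SolvClasses

/-- Every subgroup of `X` has at most `B` conjugacy classes. -/
def MaxK (X : Type*) [Group X] (B : ℕ) : Prop :=
  ∀ H : Subgroup X, Nat.card (ConjClasses H) ≤ B

variable {X Y Z : Type*} [Group X] [Group Y] [Group Z]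

/-- A surjection does not increase the class number. -/
theorem card_le_of_surjective [Finite X] (f : X →* Y) (hf : Function.Surjective f) :
    Nat.card (ConjClasses Y) ≤ Nat.card (ConjClasses X) := by
  refine Nat.card_le_card_of_surjective (ConjClasses.map f) ?_
  intro c
  obtain ⟨y, rfl⟩ := ConjClasses.exists_rep c
  obtain ⟨x, rfl⟩ := hf y
  exact ⟨ConjClasses.mk x, rfl⟩

/-- Commuting elements of two cosets of a normal subgroup. -/
theorem card_commuting_coset_le [Finite X] (N : Subgroup X) [N.Normal] (a b : X ⧸ N) :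
    Nat.card {p : {p : X × X // Commute p.1 p.2} //
      (p.1.1 : X ⧸ N) = a ∧ (p.1.2 : X ⧸ N) = b} ≤
      Nat.card {p : N × N // Commute p.1 p.2} := by
  classical
  -- pairs `(x, n)` with `x` in the coset `a` and `n` in `N` commuting
  have h1 : Nat.card {p : {p : X × X // Commute p.1 p.2} //
        (p.1.1 : X ⧸ N) = a ∧ (p.1.2 : X ⧸ N) = b} ≤
      Nat.card {p : X × N // (p.1 : X ⧸ N) = a ∧ Commute p.1 (p.2 : X)} := by
    -- fix for every `x` one partner in the coset `b`
    let sel : X → X := fun x =>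
      if h : ∃ y : X, Commute x y ∧ (y : X ⧸ N) = b then h.choose else 1
    have hsel : ∀ x y : X, Commute x y → (y : X ⧸ N) = b →
        Commute x (sel x) ∧ (sel x : X ⧸ N) = b := by
      intro x y h hb
      have hex : ∃ y : X, Commute x y ∧ (y : X ⧸ N) = b := ⟨y, h, hb⟩
      simp only [sel, dif_pos hex]
      exact hex.choose_spec
    refine Nat.card_le_card_of_injective
      (fun p => ⟨(p.1.1.1, ⟨(sel p.1.1.1)⁻¹ * p.1.1.2, ?_⟩), p.2.1, ?_⟩) ?_
    · exact QuotientGroup.eq.1 ((hsel _ _ p.1.2 p.2.2).2.trans p.2.2.symm)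
    · exact ((hsel _ _ p.1.2 p.2.2).1.inv_right).mul_right p.1.2
    · intro p q h
      have e1 : p.1.1.1 = q.1.1.1 := congrArg (fun r => r.1.1) h
      have e2 : (sel p.1.1.1)⁻¹ * p.1.1.2 = (sel q.1.1.1)⁻¹ * q.1.1.2 :=
        congrArg (fun r => (r.1.2 : X)) h
      rw [e1] at e2
      exact Subtype.ext (Subtype.ext (Prod.ext e1 (mul_left_cancel e2)))
  -- the centraliser of `n` meets the coset in at most as many elements as it has in `N`
  have h2 : Nat.card {p : X × N // (p.1 : X ⧸ N) = a ∧ Commute p.1 (p.2 : X)} ≤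
      Nat.card {p : N × N // Commute p.1 p.2} := by
    let sel : N → X := fun n =>
      if h : ∃ y : X, Commute y (n : X) ∧ (y : X ⧸ N) = a then h.choose else 1
    have hsel : ∀ (n : N) (y : X), Commute y (n : X) → (y : X ⧸ N) = a →
        Commute (sel n) (n : X) ∧ (sel n : X ⧸ N) = a := by
      intro n y h hb
      have hex : ∃ y : X, Commute y (n : X) ∧ (y : X ⧸ N) = a := ⟨y, h, hb⟩
      simp only [sel, dif_pos hex]
      exact hex.choose_spec
    refine Nat.card_le_card_of_injective
      (fun p => ⟨(⟨(sel p.1.2)⁻¹ * p.1.1, ?_⟩, p.1.2), ?_⟩) ?_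
    · exact QuotientGroup.eq.1 ((hsel _ _ p.2.2 p.2.1).2.trans p.2.1.symm)
    · exact Subtype.ext (((hsel _ _ p.2.2 p.2.1).1.inv_left).mul_left p.2.2).eq
    · intro p q h
      have e1 : p.1.2 = q.1.2 := congrArg (fun r => r.1.2) h
      have e2 : (sel p.1.2)⁻¹ * p.1.1 = (sel q.1.2)⁻¹ * q.1.1 :=
        congrArg (fun r => (r.1.1 : X)) h
      rw [e1] at e2
      exact Subtype.ext (Prod.ext (mul_left_cancel e2) e1)
  exact h1.trans h2

/-- `k(X) ≤ k(N) k(X/N)`. -/
theorem card_le_mul_quotient [Finite X] (N : Subgroup X) [N.Normal] :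
    Nat.card (ConjClasses X) ≤ Nat.card (ConjClasses N) * Nat.card (ConjClasses (X ⧸ N)) := by
  classical
  let f : {p : X × X // Commute p.1 p.2} → {p : (X ⧸ N) × (X ⧸ N) // Commute p.1 p.2} :=
    fun p => ⟨((p.1.1 : X ⧸ N), (p.1.2 : X ⧸ N)), p.2.map (QuotientGroup.mk' N)⟩
  have hfib : ∀ c, Nat.card {p // f p = c} ≤ Nat.card {p : N × N // Commute p.1 p.2} := by
    intro c
    refine le_trans (le_of_eq (Nat.card_congr (Equiv.subtypeEquivRight fun p => ?_)))
      (card_commuting_coset_le N c.1.1 c.1.2)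
    simp only [f, Subtype.ext_iff, Prod.ext_iff]
  haveI : Finite {p : (X ⧸ N) × (X ⧸ N) // Commute p.1 p.2} := inferInstance
  have hle : Nat.card {p : X × X // Commute p.1 p.2} ≤
      Nat.card {p : (X ⧸ N) × (X ⧸ N) // Commute p.1 p.2} *
        Nat.card {p : N × N // Commute p.1 p.2} := by
    haveI := Fintype.ofFinite {p : (X ⧸ N) × (X ⧸ N) // Commute p.1 p.2}
    rw [← Nat.card_congr (Equiv.sigmaFiberEquiv f), Nat.card_sigma]
    refine (Finset.sum_le_card_nsmul _ _ _ fun c _ => hfib c).trans ?_
    rw [smul_eq_mul, Finset.card_univ, ← Nat.card_eq_fintype_card]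
  rw [card_comm_eq_card_conjClasses_mul_card, card_comm_eq_card_conjClasses_mul_card,
    card_comm_eq_card_conjClasses_mul_card, ← N.card_mul_index, Subgroup.index_eq_card] at hle
  refine Nat.le_of_mul_le_mul_right (hle.trans (le_of_eq (by ring)))
    (Nat.mul_pos Nat.card_pos Nat.card_pos)

/-- The trivial bound. -/
theorem maxK_card [Finite X] : MaxK X (Nat.card X) := fun H =>
  (Nat.card_le_card_of_surjective _ ConjClasses.mk_surjective).trans H.card_le_card_group

theorem MaxK.mono {B B' : ℕ} (h : MaxK X B) (hB : B ≤ B') : MaxK X B' :=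
  fun H => (h H).trans hB

/-- Passing to an isomorphic copy or a subgroup. -/
theorem MaxK.of_injective [Finite Y] {B : ℕ} (h : MaxK Y B) (f : X →* Y) (hf : Function.Injective f) :
    MaxK X B := fun H =>
  (card_le_of_surjective (H.equivMapOfInjective f hf).symm.toMonoidHom
    (H.equivMapOfInjective f hf).symm.surjective).trans (h (H.map f))

/-- Passing to a quotient. -/
theorem MaxK.of_surjective [Finite X] {B : ℕ} (h : MaxK X B) (f : X →* Y)
    (hf : Function.Surjective f) : MaxK Y B := fun H => by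
  refine (card_le_of_surjective (f.subgroupComap H) ?_).trans (h (H.comap f))
  rintro ⟨y, hy⟩
  obtain ⟨x, rfl⟩ := hf y
  exact ⟨⟨x, hy⟩, rfl⟩

/-- Multiplicativity along a homomorphism. -/
theorem MaxK.of_ker [Finite X] [Finite Y] {a b : ℕ} (f : X →* Y) (hN : MaxK f.ker a)
    (hY : MaxK Y b) : MaxK X (a * b) := fun H => by
  let g : H →* Y := f.comp H.subtype
  refine (card_le_mul_quotient g.ker).trans (Nat.mul_le_mul ?_ ?_)
  · let i : g.ker →* f.ker :=
      { toFun := fun x => ⟨((x : H) : X), x.2⟩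
        map_one' := rfl
        map_mul' := fun _ _ => rfl }
    have hi : Function.Injective i := fun x y e =>
      Subtype.ext (Subtype.ext (congrArg Subtype.val e :))
    let e := (Subgroup.topEquiv (G := g.ker))
    exact (card_le_of_surjective e.toMonoidHom e.surjective).trans (hN.of_injective i hi ⊤)
  · let e := (Subgroup.topEquiv (G := H ⧸ g.ker))
    exact (card_le_of_surjective e.toMonoidHom e.surjective).trans
      (hY.of_injective _ (QuotientGroup.kerLift_injective g) ⊤)

/-- Multiplicativity along a normal subgroup. -/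
theorem MaxK.of_normal [Finite X] {a b : ℕ} (N : Subgroup X) [N.Normal] (hN : MaxK N a)
    (hQ : MaxK (X ⧸ N) b) : MaxK X (a * b) := by
  refine MaxK.of_ker (QuotientGroup.mk' N) ?_ hQ
  rw [QuotientGroup.ker_mk']
  exact hN

/-- Two factors. -/
theorem MaxK.prod [Finite X] [Finite Y] {a b : ℕ} (hX : MaxK X a) (hY : MaxK Y b) :
    MaxK (X × Y) (a * b) := by
  refine MaxK.of_ker (MonoidHom.snd X Y) ?_ hY
  refine hX.of_injective ((MonoidHom.fst X Y).comp (MonoidHom.snd X Y).ker.subtype) ?_
  rintro ⟨⟨x, y⟩, hxy⟩ ⟨⟨x', y'⟩, hxy'⟩ e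
  rw [MonoidHom.mem_ker] at hxy hxy'
  exact Subtype.ext (Prod.ext e ((hxy : y = 1).trans (hxy' : y' = 1).symm))

/-- Finitely many factors. -/
theorem MaxK.pi {n : ℕ} {M : Type*} [Group M] [Finite M] {a : ℕ} (hM : MaxK M a) :
    MaxK (Fin n → M) (a ^ n) := by
  induction n with
  | zero =>
    exact maxK_card.mono (by simp)
  | succ n ih =>
    have h := hM.prod ih
    rw [← pow_succ'] at h
    refine h.of_injective
      { toFun := fun f => (f 0, fun i => f i.succ)
        map_one' := rfl
        map_mul' := fun _ _ => rfl } ?_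
    intro f g e
    funext i
    refine Fin.cases (congrArg Prod.fst e :) (fun j => congrFun (congrArg Prod.snd e :) j) i

end CfsgLib.SolvClasses
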