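import Mathlib
import Cfsg.Agent.Lib.SolvClasses.Basic
import Cfsg.Agent.Lib.SolvClasses.LayerTwo.Split
import Cfsg.Agent.Lib.SolvClasses.LayerTwo.Field

/-!
# Class numbers in solvable irreducible subgroups of `Sp_{2n}(2)`, `2 ≤ n ≤ 5`

Every subgroup has at most `3 ^ (2 ^ n - 1)` classes.
-/

set_option autoImplicit false
set_option linter.unusedSectionVars false
set_option linter.style.haveILetI false

namespace CfsgLib.SolvClasses

open Matrix

namespace LayerTwo

theorem card_GL_two (d : ℕ) :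
    Nat.card (GL (Fin d) (ZMod 2)) = ∏ i : Fin d, (2 ^ d - 2 ^ (i : ℕ)) := by
  rw [Matrix.card_GL_field]
  simp [ZMod.card]

theorem maxK_GL_two : MaxK (GL (Fin 2) (ZMod 2)) 3 := by
  intro H
  have h6 : Nat.card (GL (Fin 2) (ZMod 2)) = 6 := by rw [card_GL_two]; decide
  have hdvd := H.card_subgroup_dvd_card
  rw [h6] at hdvd
  have hle := Nat.le_of_dvd (by norm_num) hdvd
  by_cases h : Nat.card H ≤ 3
  · exact (Nat.card_le_card_of_surjective _ ConjClasses.mk_surjective).trans h
  have htop : H = ⊤ := Subgroup.eq_top_of_card_eq _ (by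
    rw [h6]
    interval_cases hc : Nat.card H <;> omega)
  subst htop
  let a : GL (Fin 2) (ZMod 2) := ⟨!![1, 1; 0, 1], !![1, 1; 0, 1], by decide, by decide⟩
  let b : GL (Fin 2) (ZMod 2) := ⟨!![1, 0; 1, 1], !![1, 0; 1, 1], by decide, by decide⟩
  have := eight_mul_card_le (G := (⊤ : Subgroup (GL (Fin 2) (ZMod 2))))
    ⟨⟨a, trivial⟩, ⟨b, trivial⟩, fun e => by
      have : a * b = b * a := congrArg Subtype.val e
      exact absurd this (by decide)⟩
  rw [Subgroup.card_top, h6] at this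
  omega

variable {G : Type} [Group G] [Finite G] {W : Type} [AddCommGroup W] [Module (ZMod 2) W] [Finite W]
  {ρ : G →* (W ≃ₗ[ZMod 2] W)} {B : W →ₗ[ZMod 2] W →ₗ[ZMod 2] ZMod 2}

/-- The imprimitive bound. -/
theorem maxK_of_split (S : Setup ρ B) {n : ℕ} (h2 : 2 ≤ n) (h5 : n ≤ 5)
    (hW : Nat.card W = 4 ^ n) (N : Subgroup G) [N.Normal]
    (hab : ∀ a ∈ N, ∀ b ∈ N, a * b = b * a) {ε : Module.End (ZMod 2) W} (hε : IsAtomI ρ N ε)
    (hne : ε ≠ 1) : MaxK G (3 ^ (2 ^ n - 1)) := by
  obtain ⟨b, d, f, φ, hb, hcard, hφ, htwo⟩ := exists_split S N hab hε hne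
  have hdb : d * b = 2 * n := by
    rw [hW, ← pow_mul, show (4 : ℕ) = 2 ^ 2 from rfl, ← pow_mul] at hcard
    exact (Nat.pow_right_injective le_rfl hcard).symm
  have hbn : b ≤ 10 := by
    have := Nat.le_of_dvd (by omega) (Dvd.intro_left d hdb)
    omega
  have hker : Nat.card f.ker ≤ Nat.card (GL (Fin d) (ZMod 2)) ^ b := by
    have := card_le_of_hom φ hφ
    rwa [Nat.card_fun, Nat.card_fin] at this
  have hidx : Nat.card G ≤ b.factorial * Nat.card f.ker := by
    rw [← f.ker.index_mul_card, Subgroup.index_ker]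
    refine Nat.mul_le_mul_right _ ((Subgroup.card_le_card_group _).trans (le_of_eq ?_))
    rw [Nat.card_perm, Nat.card_fin]
  have big : ∀ K, Nat.card f.ker ≤ K → b.factorial * K ≤ 3 ^ (2 ^ n - 1) → MaxK G (3 ^ (2 ^ n - 1)) :=
    fun K hK hle => maxK_card.mono (hidx.trans ((Nat.mul_le_mul_left _ hK).trans hle))
  have pairCase : b = 2 → ∀ L, Nat.card (GL (Fin d) (ZMod 2)) = L → 2 * L ≤ 3 ^ (2 ^ n - 1) →
      (∀ m, 2 ^ d = 4 ^ m → 2 * (isomBound m * isomBound m) ≤ 3 ^ (2 ^ n - 1)) →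
      MaxK G (3 ^ (2 ^ n - 1)) := by
    intro hb2 L hL hle hm
    subst hb2
    rcases htwo rfl with ⟨ψ, hψ⟩ | ⟨m, hm1, hm2⟩
    · exact big L (hL ▸ card_le_of_hom ψ hψ) hle
    · exact big _ hm2 (hm m hm1)
  have hd : d = 2 * n / b := by rw [← hdb, Nat.mul_div_cancel _ (by omega)]
  interval_cases n
  · interval_cases b
    · obtain rfl : d = 2 := by omega
      refine (MaxK.of_ker (a := 3 ^ 2) (b := 2) f ((maxK_GL_two.pi).of_injective φ hφ) ?_).mono
        (by norm_num)
      exact maxK_card.mono (by rw [Nat.card_perm, Nat.card_fin]; rfl)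
    all_goals first
      | omega
      | (norm_num at hd
         subst hd
         exact big _ hker (by rw [card_GL_two]; norm_num [Nat.factorial, Fin.prod_univ_two, Fin.prod_univ_five]))
  · interval_cases b
    · obtain rfl : d = 3 := by omega
      refine pairCase rfl _ (card_GL_two 3) (by decide) fun m hm => ?_
      exfalso
      rcases m with _ | _ | m <;> simp [pow_succ] at hm
      have := Nat.one_le_pow m 4 (by norm_num)
      omega
    all_goals first
      | omega
      | (norm_num at hd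
         subst hd
         exact big _ hker (by rw [card_GL_two]; norm_num [Nat.factorial, Fin.prod_univ_two, Fin.prod_univ_five]))
  · interval_cases b
    · obtain rfl : d = 4 := by omega
      refine pairCase rfl _ (card_GL_two 4) (by norm_num [Fin.prod_univ_four]) fun m hm => ?_
      obtain rfl : m = 2 := Nat.pow_right_injective (a := 4) (by norm_num) (hm.symm.trans (by norm_num))
      norm_num [isomBound]
    all_goals first
      | omega
      | (norm_num at hd
         subst hd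
         exact big _ hker (by rw [card_GL_two]; norm_num [Nat.factorial, Fin.prod_univ_two, Fin.prod_univ_five]))
  · interval_cases b
    all_goals first
      | omega
      | (norm_num at hd
         subst hd
         exact big _ hker (by rw [card_GL_two]; norm_num [Nat.factorial, Fin.prod_univ_two, Fin.prod_univ_five]))

/-- The homogeneous bound. -/
theorem maxK_of_field (S : Setup ρ B) {n : ℕ} (h2 : 2 ≤ n) (h5 : n ≤ 5)
    (hW : Nat.card W = 4 ^ n) (N : Subgroup G) [N.Normal] (hN : N ≠ ⊥)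
    (hab : ∀ a ∈ N, ∀ b ∈ N, a * b = b * a) (hodd : Odd (Nat.card N)) (h1 : IsAtomI ρ N 1) :
    MaxK G (3 ^ (2 ^ n - 1)) := by
  obtain ⟨e, k, C, he, hcard, hG, hC, hU, h4, habC⟩ := exists_field S N hN hab hodd h1
  have hek : e * k = 2 * n := by
    rw [hW, ← pow_mul, show (4 : ℕ) = 2 ^ 2 from rfl, ← pow_mul] at hcard
    exact (Nat.pow_right_injective le_rfl hcard).symm
  have hk1 : 1 ≤ k := by
    rcases Nat.eq_zero_or_pos k with h | h
    · subst h; omega
    · exact h
  have he10 : e ≤ 10 := by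
    have := Nat.le_of_dvd (by omega) (Dvd.intro k hek)
    omega
  have big : ∀ K, Nat.card C ≤ K → e * K ≤ 3 ^ (2 ^ n - 1) → MaxK G (3 ^ (2 ^ n - 1)) :=
    fun K hK hle => maxK_card.mono (hG.trans ((Nat.mul_le_mul_left _ hK).trans hle))
  rw [hW] at hC
  interval_cases n
  · interval_cases e <;> try omega
    · -- `GU₂(2)` extended by a field automorphism
      have hC18 : Nat.card C ≤ 18 := (hU 2 rfl hW).trans (by norm_num [unitaryBound, normOne])
      intro H
      show _ ≤ 27
      by_cases h27 : Nat.card H ≤ 27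
      · exact (Nat.card_le_card_of_surjective _ ConjClasses.mk_surjective).trans h27
      have h36 : Nat.card H ≤ 36 := H.card_le_card_group.trans (hG.trans (by omega))
      by_cases hcomm : ∀ a ∈ H, ∀ b ∈ H, a * b = b * a
      swap
      · push Not at hcomm
        obtain ⟨a, ha, b, hb, hne⟩ := hcomm
        have := eight_mul_card_le (G := H) ⟨⟨a, ha⟩, ⟨b, hb⟩, fun h => hne (congrArg Subtype.val h)⟩
        omega
      exfalso
      have hidx : C.index ≤ 2 := by
        have := C.index_mul_card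
        have := Nat.card_pos (α := C)
        nlinarith
      have hrel : (C.subgroupOf H).index ≤ 2 := by
        refine le_trans ?_ hidx
        rw [← Subgroup.relIndex_top_right C]
        exact Subgroup.relIndex_le_of_le_right le_top (by
          rw [Subgroup.relIndex_top_right]; exact Subgroup.index_ne_zero_of_finite)
      have hHC : Nat.card H ≤ 2 * Nat.card (C.subgroupOf H) := by
        rw [← (C.subgroupOf H).index_mul_card]
        exact Nat.mul_le_mul_right _ hrel
      have hinter : Nat.card (C.subgroupOf H) = Nat.card ((H.subgroupOf C)) := by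
        refine Nat.card_congr ⟨fun x => ⟨⟨x.1.1, x.2⟩, x.1.2⟩, fun x => ⟨⟨x.1.1, x.2⟩, x.1.2⟩,
          fun x => rfl, fun x => rfl⟩
      have hdvd := (H.subgroupOf C).card_subgroup_dvd_card
      have hCH : C ≤ H := by
        rw [← Subgroup.subgroupOf_eq_top]
        refine Subgroup.eq_top_of_card_eq _ ?_
        obtain ⟨j, hj⟩ := hdvd
        rcases j with _ | _ | j
        · have := Nat.card_pos (α := C); omega
        · omega
        · have : Nat.card (H.subgroupOf C) * 2 ≤ Nat.card C := by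
            rw [hj]; exact Nat.mul_le_mul_left _ (by omega)
          omega
      have := Subgroup.card_le_of_le (habC H hCH hcomm)
      omega
    · obtain rfl : k = 1 := by omega
      exact big 5 (h4 rfl rfl) (by norm_num)
  · interval_cases e <;> try omega
    · exact big _ (hU 3 rfl hW) (by norm_num [unitaryBound, normOne])
    · obtain rfl : k = 1 := by omega
      exact big _ hC (by norm_num)
  · interval_cases e <;> try omega
    · exact big _ (hU 4 rfl hW) (by norm_num [unitaryBound, normOne])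
    · obtain rfl : k = 2 := by omega
      exact big _ hC (by norm_num)
    · obtain rfl : k = 1 := by omega
      exact big _ hC (by norm_num)
  · interval_cases e <;> try omega
    · exact big _ (hU 5 rfl hW) (by norm_num [unitaryBound, normOne])
    · obtain rfl : k = 1 := by omega
      exact big _ hC (by norm_num)

/-- The abstract bound. -/
theorem maxK_of_setup (S : Setup ρ B) {n : ℕ} (h2 : 2 ≤ n) (h5 : n ≤ 5)
    (hW : Nat.card W = 4 ^ n) : MaxK G (3 ^ (2 ^ n - 1)) := by
  obtain ⟨N, hNn, hN, hab, hodd⟩ := S.exists_normal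
  haveI : Nontrivial W := Finite.one_lt_card_iff_nontrivial.1 (by have := S.big; omega)
  obtain ⟨ε, hε⟩ := exists_atom (ρ := ρ) hab inferInstance
  by_cases h : ε = 1
  · exact maxK_of_field S h2 h5 hW N hN hab hodd (h ▸ hε)
  · exact maxK_of_split S h2 h5 hW N hab hε h

end LayerTwo

open LayerTwo in
/-- Class numbers in solvable irreducible subgroups of `Sp_{2n}(2)` for `2 ≤ n ≤ 5`. -/
theorem maxK_symplectic_two {n : ℕ} (h2 : 2 ≤ n) (h5 : n ≤ 5)
    (X : Subgroup (Matrix.symplecticGroup (Fin n) (ZMod 2))) (hsolv : Group.IsSolvable X)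
    (hirr : ∀ U : Submodule (ZMod 2) (Fin n ⊕ Fin n → ZMod 2),
      (∀ x ∈ X, ∀ u ∈ U, Matrix.mulVec ((x : Matrix.symplecticGroup (Fin n) (ZMod 2)) :
        Matrix (Fin n ⊕ Fin n) (Fin n ⊕ Fin n) (ZMod 2)) u ∈ U) → U = ⊥ ∨ U = ⊤) :
    MaxK X (3 ^ (2 ^ n - 1)) := by
  let B : (Fin n ⊕ Fin n → ZMod 2) →ₗ[ZMod 2] (Fin n ⊕ Fin n → ZMod 2) →ₗ[ZMod 2] ZMod 2 :=
    Matrix.toLinearMap₂' (ZMod 2) (J (Fin n) (ZMod 2))
  have hB : ∀ u v, B u v = u ⬝ᵥ (J (Fin n) (ZMod 2)) *ᵥ v := fun u v =>
    Matrix.toLinearMap₂'_apply' _ u v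
  have hmat : ∀ (x y : X),
      (((x * y : X) : Matrix.symplecticGroup (Fin n) (ZMod 2)) : Matrix (Fin n ⊕ Fin n) (Fin n ⊕ Fin n) (ZMod 2)) =
        ((x : Matrix.symplecticGroup (Fin n) (ZMod 2)) : Matrix (Fin n ⊕ Fin n) (Fin n ⊕ Fin n) (ZMod 2)) *
          ((y : Matrix.symplecticGroup (Fin n) (ZMod 2)) : Matrix (Fin n ⊕ Fin n) (Fin n ⊕ Fin n) (ZMod 2)) :=
    fun x y => rfl
  let L : X →* Module.End (ZMod 2) (Fin n ⊕ Fin n → ZMod 2) :=
    { toFun := fun x => Matrix.mulVecLin
        ((x : Matrix.symplecticGroup (Fin n) (ZMod 2)) : Matrix (Fin n ⊕ Fin n) (Fin n ⊕ Fin n) (ZMod 2))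
      map_one' := by
        show Matrix.mulVecLin (1 : Matrix (Fin n ⊕ Fin n) (Fin n ⊕ Fin n) (ZMod 2)) = 1
        exact Matrix.mulVecLin_one
      map_mul' := fun x y => by rw [hmat, Matrix.mulVecLin_mul]; rfl }
  let ρ : X →* ((Fin n ⊕ Fin n → ZMod 2) ≃ₗ[ZMod 2] (Fin n ⊕ Fin n → ZMod 2)) :=
    (LinearMap.GeneralLinearGroup.generalLinearEquiv (ZMod 2) _).toMonoidHom.comp L.toHomUnits
  have hρ : ∀ (x : X) u, ρ x u =
      ((x : Matrix.symplecticGroup (Fin n) (ZMod 2)) : Matrix (Fin n ⊕ Fin n) (Fin n ⊕ Fin n) (ZMod 2)) *ᵥ u :=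
    fun x u => rfl
  have hcard : Nat.card (Fin n ⊕ Fin n → ZMod 2) = 4 ^ n := by
    rw [Nat.card_fun, Nat.card_zmod, Nat.card_sum, Nat.card_fin, ← two_mul, pow_mul]
    norm_num
  refine maxK_of_setup (ρ := ρ) (B := B) ⟨?_, ⟨?_, ?_⟩, ?_, ?_, hsolv, ?_⟩ h2 h5 hcard
  · intro x y h
    refine Subtype.ext (Subtype.ext (Matrix.ext_of_mulVec_single fun i => ?_))
    rw [← hρ x, ← hρ y, h]
  · intro v
    obtain ⟨a, b, rfl⟩ : ∃ a b, v = Sum.elim a b :=
      ⟨v ∘ Sum.inl, v ∘ Sum.inr, (Sum.elim_comp_inl_inr v).symm⟩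
    rw [hB, J, Matrix.fromBlocks_mulVec, Sum.elim_comp_inl, Sum.elim_comp_inr]
    simp [sumElim_dotProduct_sumElim, dotProduct_comm b a, Matrix.neg_mulVec, CharTwo.add_self_eq_zero]
  · intro v hv
    have h : v ᵥ* J (Fin n) (ZMod 2) = 0 := dotProduct_eq_zero _ fun w => by
      rw [← dotProduct_mulVec, ← hB, hv]
    have h' := congrArg (fun z => z ᵥ* J (Fin n) (ZMod 2)) h
    simpa [Matrix.vecMul_vecMul, J_squared, Matrix.zero_vecMul, Matrix.vecMul_neg] using h'
  · intro x u v
    have hx := SymplecticGroup.mem_iff'.1 (x : Matrix.symplecticGroup (Fin n) (ZMod 2)).2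
    rw [hB, hB, hρ, hρ, Matrix.mulVec_mulVec, ← Matrix.vecMul_transpose,
      ← Matrix.dotProduct_mulVec, Matrix.mulVec_mulVec, ← Matrix.mul_assoc, hx]
  · intro U hU
    exact hirr U fun x hx u hu => hU ⟨x, hx⟩ u hu
  · rw [hcard]
    calc 2 < 4 ^ 2 := by norm_num
      _ ≤ 4 ^ n := Nat.pow_le_pow_right (by norm_num) h2

end CfsgLib.SolvClasses
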