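import Cfsg.Agent.Lib.SolvClasses.LayerBig
import Cfsg.Agent.Lib.SolvClasses.LayerTwo

/-!
# All symplectic layers

An irreducible solvable subgroup of `Sp(2n,p)` has at most `3 ^ (p ^ n - 1)` classes, and so has
each of its subgroups.
-/

set_option autoImplicit false

namespace CfsgLib.SolvClasses

open Matrix

/-- The bound for a symplectic layer. -/
theorem maxK_symplectic {p n : ℕ} [Fact p.Prime] (hn : 1 ≤ n)
    (X : Subgroup (Matrix.symplecticGroup (Fin n) (ZMod p))) (hsolv : Group.IsSolvable X)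
    (hirr : ∀ U : Submodule (ZMod p) (Fin n ⊕ Fin n → ZMod p),
      (∀ x ∈ X, ∀ u ∈ U, Matrix.mulVec ((x : Matrix.symplecticGroup (Fin n) (ZMod p)) :
        Matrix (Fin n ⊕ Fin n) (Fin n ⊕ Fin n) (ZMod p)) u ∈ U) → U = ⊥ ∨ U = ⊤) :
    MaxK X (3 ^ (p ^ n - 1)) := by
  rcases eq_or_lt_of_le hn with h1 | h1
  · subst h1
    exact maxK_symplectic_one.of_injective X.subtype X.subtype_injective
  · by_cases h2 : p = 2 ∧ n ≤ 5
    · obtain ⟨rfl, hn5⟩ := h2
      exact maxK_symplectic_two h1 hn5 X hsolv hirr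
    · by_cases h3 : p = 3 ∧ n = 2
      · obtain ⟨rfl, rfl⟩ := h3
        exact maxK_symplectic_four_three X hsolv
      · exact maxK_symplectic_big h1 h3 h2 X

end CfsgLib.SolvClasses
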