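import Cfsg.Agent.Lib.SolvClasses.Primitive

/-!
# The class bound modulo the Fitting subgroup, assembled
-/

set_option autoImplicit false
set_option linter.style.haveILetI false

namespace CfsgLib.SolvClasses

open Cfsg

/-- For a finite solvable group with a faithful representation of degree `r`, every subgroup of
`G / F(G)` has at most `3 ^ (r - 1)` classes. -/
theorem bnd_all (hSp : LayerBound) : ∀ r, Bnd r := by
  intro r
  induction r using Nat.strong_induction_on with
  | _ r ih =>
  intro G _ _ V _ _ _ ρ hρ hG hr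
  subst hr
  rcases subsingleton_or_nontrivial V with hV | hV
  · -- the trivial group
    haveI : Subsingleton G := ⟨fun a b => hρ (LinearMap.ext fun v => Subsingleton.elim _ _)⟩
    refine maxK_card.mono ?_
    rw [Nat.card_of_subsingleton (1 : G ⧸ fittingSubgroup G)]
    exact Nat.one_le_pow _ _ (by norm_num)
  by_cases hirr : ∀ W : Submodule ℂ V, (∀ g, ∀ w ∈ W, ρ g w ∈ W) → W = ⊥ ∨ W = ⊤
  swap
  · push Not at hirr
    obtain ⟨W, hW, h0, h1⟩ := hirr
    exact maxK_of_reducible hρ hG hW h0 h1 ih
  by_cases hsc : ∀ N : Subgroup G, N.Normal → (∀ a ∈ N, ∀ b ∈ N, Commute a b) →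
      ∀ a ∈ N, FgsC.HallHigman.IsScalar ρ a
  · exact maxK_of_primitive hρ hG hsc ih hSp
  push Not at hsc
  obtain ⟨N, hN, hab, a, ha, hns⟩ := hsc
  haveI := hN
  exact maxK_of_imprimitive hρ hG hirr N hab ha hns ih

/-- The bound for subgroups of `GL_r(ℂ)`. -/
theorem card_classes_le (hSp : LayerBound) {r : ℕ} (G : Subgroup (GL (Fin r) ℂ)) [Finite G]
    (hsolv : Group.IsSolvable G) [hF : (fittingSubgroup G).Normal] (H : Subgroup G) :
    Nat.card (ConjClasses (H ⧸ (fittingSubgroup G).subgroupOf H)) ≤ 3 ^ (r - 1) := by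
  let ρ : Representation ℂ G (Fin r → ℂ) :=
    (Matrix.toLinAlgEquiv' : Matrix (Fin r) (Fin r) ℂ ≃ₐ[ℂ] _).toAlgHom.toMonoidHom.comp
      ((Units.coeHom _).comp G.subtype)
  have hρ : Function.Injective ρ := fun a b h =>
    Subtype.ext (Units.ext (Matrix.toLinAlgEquiv'.injective h))
  have h := bnd_all hSp r G (Fin r → ℂ) ρ hρ hsolv (Module.finrank_fin_fun ℂ)
  let f : H →* G ⧸ fittingSubgroup G := (QuotientGroup.mk' _).comp H.subtype
  have hker : f.ker = (fittingSubgroup G).subgroupOf H := by
    rw [show f = (QuotientGroup.mk' _).comp H.subtype from rfl, ← MonoidHom.comap_ker,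
      QuotientGroup.ker_mk']
    rfl
  let e := (QuotientGroup.quotientMulEquivOfEq hker).symm.trans
    (QuotientGroup.quotientKerEquivRange f)
  haveI : Finite f.range := inferInstance
  exact (card_le_of_surjective e.symm.toMonoidHom e.symm.surjective).trans (h f.range)

end CfsgLib.SolvClasses
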