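import Mathlib
import Cfsg.Agent.Lib.Base.MinimalNormal
import Cfsg.Agent.Lib.FgsC.GenTuples

/-!
# The order of a solvable permutation group

A solvable group of permutations of `m ≥ 1` points has order at most `3 ^ (m - 1)`.
-/

set_option autoImplicit false
set_option linter.style.haveILetI false

open MulAction

namespace CfsgLib.SolvClasses

/-- `p ≤ 3 ^ (p / 2)`. -/
theorem le_three_pow_half : ∀ {p : ℕ}, 2 ≤ p → p ≤ 3 ^ (p / 2)
  | 2, _ => by norm_num
  | 3, _ => by norm_num
  | p + 4, _ => by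
    have ih := le_three_pow_half (p := p + 2) (by omega)
    rw [show (p + 4) / 2 = (p + 2) / 2 + 1 by omega, pow_succ]
    omega

theorem arith_odd : ∀ {n : ℕ}, 2 ≤ n → n * (n + 1) ≤ 2 * 3 ^ (n - 1) := by
  intro n hn
  induction n, hn using Nat.le_induction with
  | base => norm_num
  | succ k hk ih =>
    obtain ⟨j, rfl⟩ : ∃ j, k = j + 1 := ⟨k - 1, by omega⟩
    simp only [Nat.add_sub_cancel] at ih ⊢
    rw [pow_succ]
    nlinarith

theorem arith_two : ∀ {n : ℕ}, 4 ≤ n → 2 * (n * (n + 1)) + 5 ≤ 3 * 2 ^ n := by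
  intro n hn
  induction n, hn using Nat.le_induction with
  | base => norm_num
  | succ k hk ih =>
    rw [pow_succ]
    nlinarith

/-- The order of the affine group is small. -/
theorem affine_le {p : ℕ} (hp : p.Prime) {n : ℕ} (hn : 1 ≤ n) :
    3 * (p ^ n * ∏ i ∈ Finset.range n, (p ^ n - p ^ i)) ≤ 3 ^ p ^ n := by
  have hle : p ^ n * ∏ i ∈ Finset.range n, (p ^ n - p ^ i) ≤ p ^ (n * (n + 1)) := by
    refine (Nat.mul_le_mul_left _ (Finset.prod_le_prod' fun i _ => Nat.sub_le _ _)).trans (le_of_eq ?_)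
    rw [Finset.prod_const, Finset.card_range, ← pow_mul, ← pow_add]
    congr 1
    ring
  rcases hp.eq_two_or_odd with rfl | hodd
  · rcases Nat.lt_or_ge n 4 with h4 | h4
    · interval_cases n <;> decide
    · have h := arith_two h4
      obtain ⟨e, he⟩ : ∃ e, 3 * e ≤ n * (n + 1) + 2 ∧ n * (n + 1) ≤ 3 * e :=
        ⟨(n * (n + 1) + 2) / 3, by omega, by omega⟩
      have h1 : 2 ^ (n * (n + 1)) ≤ 3 ^ (2 * e) := by
        refine (Nat.pow_le_pow_right (by norm_num) he.2).trans ?_
        rw [pow_mul, pow_mul]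
        exact Nat.pow_le_pow_left (by norm_num) _
      refine (Nat.mul_le_mul_left 3 (hle.trans h1)).trans ?_
      rw [← pow_succ']
      exact Nat.pow_le_pow_right (by norm_num) (by omega)
  · have h3 : 3 ≤ p := by have := hp.two_le; omega
    have h1 : p ^ (n * (n + 1)) ≤ 3 ^ (p / 2 * (n * (n + 1))) := by
      rw [pow_mul 3]
      exact Nat.pow_le_pow_left (le_three_pow_half hp.two_le) _
    refine (Nat.mul_le_mul_left 3 (hle.trans h1)).trans ?_
    rw [← pow_succ']
    refine Nat.pow_le_pow_right (by norm_num) ?_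
    rcases Nat.lt_or_ge n 2 with h2 | h2
    · obtain rfl : n = 1 := by omega
      simp only [pow_one]
      omega
    · have h := arith_odd h2
      have hpn : p * 3 ^ (n - 1) ≤ p ^ n := by
        conv_rhs => rw [show n = n - 1 + 1 by omega, pow_succ']
        exact Nat.mul_le_mul_left _ (Nat.pow_le_pow_left h3 _)
      have hk : 2 * (p / 2) + 1 ≤ p := by omega
      have hm := Nat.mul_le_mul_right (n * (n + 1)) hk
      nlinarith

/-- The image of an action on an invariant set. -/
theorem card_range_le {α : Type} [Finite α] (P : Subgroup (Equiv.Perm α)) (s : α → Prop)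
    (hs : ∀ g ∈ P, ∀ y, s (g y) ↔ s y) :
    ∃ Q : Subgroup (Equiv.Perm {y // s y}), ∃ φ : P →* Q, Function.Surjective φ ∧
      ∀ g : P, φ g = 1 → ∀ y, s y → (g : Equiv.Perm α) y = y := by
  let φ : P →* Equiv.Perm {y // s y} :=
    { toFun := fun g => (g : Equiv.Perm α).subtypePerm fun y => hs g g.2 y
      map_one' := Equiv.ext fun _ => rfl
      map_mul' := fun _ _ => Equiv.ext fun _ => rfl }
  exact ⟨φ.range, φ.rangeRestrict, φ.rangeRestrict_surjective, fun g hg y hy =>
    congrArg Subtype.val (congrArg (fun σ : Equiv.Perm {y // s y} => σ ⟨y, hy⟩)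
      (congrArg Subtype.val hg))⟩

/-- A solvable permutation group on `m` points has order at most `3 ^ (m - 1)`. -/
theorem card_solvable_perm_aux : ∀ (m : ℕ) (α : Type) [Finite α] (P : Subgroup (Equiv.Perm α)),
    Group.IsSolvable P → Nat.card α = m → 1 ≤ m → 3 * Nat.card P ≤ 3 ^ m := by
  intro m
  induction m using Nat.strong_induction_on with
  | _ m ih =>
  intro α _ P hP hm h1
  classical
  haveI := hP
  obtain ⟨x⟩ : Nonempty α := (Nat.card_pos_iff.1 (hm ▸ h1)).1
  by_cases htr : ∀ y, y ∈ orbit P x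
  swap
  · -- an orbit and the rest
    push Not at htr
    obtain ⟨y, hy⟩ := htr
    have hs : ∀ g ∈ P, ∀ z, g z ∈ orbit P x ↔ z ∈ orbit P x := fun g hg z =>
      smul_orbit_iff_aux (⟨g, hg⟩ : P) z
    obtain ⟨Q, φ, hφ, hφ1⟩ := card_range_le P (· ∈ orbit P x) hs
    obtain ⟨R, ψ, hψ, hψ1⟩ := card_range_le P (fun z => ¬ z ∈ orbit P x)
      fun g hg z => not_congr (hs g hg z)
    have hadd : Nat.card {z // z ∈ orbit P x} + Nat.card {z // ¬ z ∈ orbit P x} = m := by
      rw [← Nat.card_sum, Nat.card_congr (Equiv.sumCompl _), hm]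
    haveI : Nonempty {z // z ∈ orbit P x} := ⟨⟨x, mem_orbit_self x⟩⟩
    haveI : Nonempty {z // ¬ z ∈ orbit P x} := ⟨⟨y, hy⟩⟩
    have ha : 0 < Nat.card {z // z ∈ orbit P x} := Nat.card_pos
    have hb : 0 < Nat.card {z // ¬ z ∈ orbit P x} := Nat.card_pos
    have hQ := ih _ (by omega) _ Q (Group.isSolvable_of_surjective hφ) rfl ha
    have hR := ih _ (by omega) _ R (Group.isSolvable_of_surjective hψ) rfl hb
    have hle : Nat.card P ≤ Nat.card Q * Nat.card R := by
      rw [← Nat.card_prod]
      refine Nat.card_le_card_of_injective (φ.prod ψ) ((injective_iff_map_eq_one _).2 fun g hg => ?_)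
      refine Subtype.ext (Equiv.ext fun z => ?_)
      by_cases hz : z ∈ orbit P x
      · exact hφ1 g (congrArg Prod.fst hg) z hz
      · exact hψ1 g (congrArg Prod.snd hg) z hz
    rw [← hadd, pow_add]
    nlinarith [Nat.zero_le (Nat.card Q), Nat.zero_le (Nat.card R)]
  -- transitive
  rcases subsingleton_or_nontrivial P with hsub | hnt
  · rw [Nat.card_of_subsingleton (1 : P), mul_one]
    exact Nat.le_self_pow (by omega) 3
  obtain ⟨N, hN⟩ := CfsgLib.Base.exists_isMinimalNormal (G := P)
  haveI := hN.normal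
  obtain ⟨p, hp, hcomm, hexp, hpg⟩ := hN.exists_prime inferInstance
  haveI := Fact.mk hp
  -- `N` permutes the points
  let O := orbitRel.Quotient N α
  have hmove : ∀ (g : P) (a b : α), a ∈ orbit N b →
      (g : Equiv.Perm α) a ∈ orbit N ((g : Equiv.Perm α) b) := by
    rintro g _ b ⟨n, rfl⟩
    refine ⟨⟨g * n * g⁻¹, hN.normal.conj_mem _ n.2 g⟩, ?_⟩
    show ((g * n * g⁻¹ : P) : Equiv.Perm α) ((g : Equiv.Perm α) b) = _
    simp
    rfl
  have hcong : ∀ (g : P) (a b : α), (orbitRel N α) a b ↔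
      (orbitRel N α) ((g : Equiv.Perm α) a) ((g : Equiv.Perm α) b) := by
    intro g a b
    simp only [orbitRel_apply]
    refine ⟨hmove g a b, fun h => ?_⟩
    simpa using hmove g⁻¹ _ _ h
  let π : P →* Equiv.Perm O :=
    { toFun := fun g => Quotient.congr (g : Equiv.Perm α) fun a b => hcong g a b
      map_one' := Equiv.ext fun ω => by induction ω using Quotient.inductionOn; rfl
      map_mul' := fun g h => Equiv.ext fun ω => by induction ω using Quotient.inductionOn; rfl }
  have hπ : ∀ g ∈ π.ker, ∀ y, (g : Equiv.Perm α) y ∈ orbit N y := fun g hg y =>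
    (orbitRel_apply).1 (Quotient.eq''.1
      (congrArg (fun σ : Equiv.Perm O => σ (Quotient.mk'' y)) hg))
  -- all orbits of `N` have the same size `b`
  obtain ⟨b, hb⟩ : ∃ b : ℕ, b = Nat.card ↥(MulAction.orbit N x : Set α) := ⟨_, rfl⟩
  have horb : ∀ y : α, Nat.card (orbit N y) = b := by
    intro y
    obtain ⟨g, rfl⟩ := htr y
    rw [hb]
    refine (Nat.card_congr (Equiv.subtypeEquiv (g : Equiv.Perm α) fun z => ⟨hmove g z x, fun h => ?_⟩)).symm
    simpa [Subgroup.smul_def] using hmove g⁻¹ _ _ h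
  haveI : Fintype O := Fintype.ofFinite _
  have hcard : Nat.card O * b = m := by
    rw [← hm, Nat.card_congr (MulAction.selfEquivSigmaOrbits' N α), Nat.card_sigma,
      Finset.sum_congr rfl (g := fun _ => b) ?_, Finset.sum_const, Finset.card_univ, smul_eq_mul,
      ← Nat.card_eq_fintype_card]
    intro ω _
    induction ω using Quotient.inductionOn' with
    | _ y => rw [orbitRel.Quotient.orbit_mk]; exact horb y
  have hb2 : 2 ≤ b := by
    by_contra hlt
    refine hN.ne_bot (Subgroup.eq_bot_iff_forall _ |>.2 fun n hn => Subtype.ext (Equiv.ext fun y => ?_))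
    haveI : Subsingleton (orbit N y) := Finite.card_le_one_iff_subsingleton.1 (by rw [horb]; omega)
    exact congrArg Subtype.val (Subsingleton.elim (α := orbit N y) ⟨_, ⟨n, hn⟩, rfl⟩ ⟨y, mem_orbit_self y⟩)
  haveI : Nonempty O := ⟨Quotient.mk'' x⟩
  have hO : 0 < Nat.card O := Nat.card_pos
  rcases Nat.lt_or_ge 1 (Nat.card O) with hk | hk
  · -- blocks
    have hblk : ∀ ω : O, ∃ Q : Subgroup (Equiv.Perm {z // z ∈ orbit N ω.out}),
        ∃ φ : π.ker →* Q, 3 * Nat.card Q ≤ 3 ^ b ∧
        ∀ g : π.ker, φ g = 1 → ∀ z ∈ orbit N ω.out, ((g : P) : Equiv.Perm α) z = z := by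
      intro ω
      have hs : ∀ g ∈ π.ker.map P.subtype, ∀ z, g z ∈ orbit N ω.out ↔ z ∈ orbit N ω.out := by
        rintro _ ⟨g, hg, rfl⟩ z
        show (g : Equiv.Perm α) z ∈ orbit N ω.out ↔ _
        rw [← orbit_eq_iff, ← orbit_eq_iff, orbit_eq_iff.2 (hπ g hg z)]
      obtain ⟨Q, φ, hφ, hφ1⟩ := card_range_le (π.ker.map P.subtype) (· ∈ orbit N ω.out) hs
      let e := π.ker.equivMapOfInjective P.subtype P.subtype_injective
      have hQ := ih b (lt_of_lt_of_le (lt_mul_of_one_lt_left (by omega) hk) hcard.le) _ Q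
        (Group.isSolvable_of_surjective (f := φ.comp e.toMonoidHom) (hφ.comp e.surjective)) (horb _) (by omega)
      exact ⟨Q, φ.comp e.toMonoidHom, hQ, fun g hg z hz => hφ1 (e g) hg z hz⟩
    choose Q φ hQ hφ using hblk
    have hker : 3 ^ Nat.card O * Nat.card π.ker ≤ 3 ^ m := by
      have h2 : Nat.card π.ker ≤ ∏ ω, Nat.card (Q ω) := by
        rw [← Nat.card_pi]
        refine Nat.card_le_card_of_injective (MonoidHom.pi φ)
          ((injective_iff_map_eq_one _).2 fun g hg => ?_)
        refine Subtype.ext (Subtype.ext (Equiv.ext fun z => ?_))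
        refine hφ (Quotient.mk'' z) g (congrFun hg _) z ((orbitRel_apply).1 (Quotient.eq''.1 ?_))
        exact (Quotient.out_eq' _).symm
      refine (Nat.mul_le_mul_left _ h2).trans ?_
      rw [show (3 : ℕ) ^ Nat.card O = ∏ _ω : O, 3 by
        rw [Finset.prod_const, Finset.card_univ, Nat.card_eq_fintype_card], ← Finset.prod_mul_distrib]
      refine (Finset.prod_le_prod' fun ω _ => hQ ω).trans (le_of_eq ?_)
      rw [Finset.prod_const, Finset.card_univ, ← Nat.card_eq_fintype_card, ← pow_mul, mul_comm, hcard]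
    have hrange := ih (Nat.card O) (lt_of_lt_of_le (lt_mul_of_one_lt_right hO hb2) hcard.le) O π.range
      (Group.isSolvable_of_surjective π.rangeRestrict_surjective) rfl hO
    rw [← π.ker.card_mul_index, Subgroup.index_ker]
    calc 3 * (Nat.card π.ker * Nat.card π.range) = Nat.card π.ker * (3 * Nat.card π.range) := by ring
      _ ≤ Nat.card π.ker * 3 ^ Nat.card O := Nat.mul_le_mul_left _ hrange
      _ ≤ 3 ^ m := by rw [mul_comm]; exact hker
  -- `N` is regular
  have hbm : b = m := by
    rw [show Nat.card O = 1 by omega, one_mul] at hcard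
    exact hcard
  have hNtr : ∀ y, y ∈ orbit N x := fun y => by
    haveI : Subsingleton O := Finite.card_le_one_iff_subsingleton.1 hk
    exact (orbitRel_apply).1 (Quotient.eq''.1 (Subsingleton.elim (Quotient.mk'' y : O) _))
  have hfix : ∀ g : P, g • x = x → (∀ n ∈ N, g * n = n * g) → g = 1 := by
    intro g hgx hgn
    refine Subtype.ext (Equiv.ext fun y => ?_)
    obtain ⟨n, rfl⟩ := hNtr y
    show g • ((n : P) • x) = (n : P) • x
    rw [← mul_smul, hgn n n.2, mul_smul, hgx]
  have hNcard : Nat.card N = m := by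
    rw [← hbm, hb]
    refine Nat.card_congr (Equiv.ofBijective (fun n : N => (⟨n • x, n, rfl⟩ : orbit N x)) ⟨?_, ?_⟩)
    · intro n n' e
      have e' : n • x = n' • x := congrArg Subtype.val e
      have h := hfix ((n'⁻¹ * n : N) : P)
        (show (n'⁻¹ * n) • x = x by rw [mul_smul, e', inv_smul_smul]) fun k hk => ?_
      · exact (inv_mul_eq_one.1 (Subtype.ext h)).symm
      · exact congrArg Subtype.val (hcomm.is_comm.comm (n'⁻¹ * n) ⟨k, hk⟩)
    · rintro ⟨_, n, rfl⟩; exact ⟨n, rfl⟩
  obtain ⟨n, hn⟩ := hpg.exists_card_eq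
  have hn1 : 1 ≤ n := by
    by_contra h
    rw [show n = 0 by omega, pow_zero, hNcard] at hn
    omega
  let St := stabilizer P x
  let c : St →* MulAut N := MulAut.conjNormal.comp St.subtype
  have hc : Function.Injective c := by
    refine (injective_iff_map_eq_one c).2 fun g hg => Subtype.ext (hfix g g.2 fun k hk => ?_)
    have h2 : (g : P) * k * (g : P)⁻¹ = k := by
      have := congrArg Subtype.val (DFunLike.congr_fun hg ⟨k, hk⟩)
      simpa [c, MulAut.conjNormal_apply] using this
    exact mul_inv_eq_iff_eq_mul.1 h2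
  have hSt : Nat.card P = m * Nat.card St := by
    rw [← St.card_mul_index, index_stabilizer, mul_comm]
    congr 1
    rw [show orbit P x = Set.univ from Set.eq_univ_of_forall htr, Set.ncard_univ, hm]
  let T : Set (Fin n → N) := {t | Subgroup.closure (Set.range t) = ⊤}
  have hA := CfsgLib.FgsC.card_dvd_of_generating c.range T (fun t ht => ht) fun a _ t ht => by
    show Subgroup.closure (Set.range fun i => a (t i)) = ⊤
    rw [show (Set.range fun i => a (t i)) = (a : N →* N) '' Set.range t from Set.range_comp a t,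
      ← MonoidHom.map_closure, show Subgroup.closure (Set.range t) = ⊤ from ht,
      Subgroup.map_top_of_surjective _ a.surjective]
  letI : CommGroup N := { (inferInstance : Group N) with mul_comm := hcomm.is_comm.comm }
  have hT : Nat.card T = ∏ i ∈ Finset.range n, (p ^ n - p ^ i) :=
    CfsgLib.FgsC.card_spanning (Q := N) (fun y => Subtype.ext (hexp y y.2)) hn
  have hpos : 0 < ∏ i ∈ Finset.range n, (p ^ n - p ^ i) := Finset.prod_pos fun i hi =>
    Nat.sub_pos_of_lt (Nat.pow_lt_pow_right hp.one_lt (Finset.mem_range.1 hi))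
  rw [hT, ← Nat.card_congr (MonoidHom.ofInjective hc).toEquiv] at hA
  calc 3 * Nat.card P ≤ 3 * (m * ∏ i ∈ Finset.range n, (p ^ n - p ^ i)) := by
        rw [hSt]; exact Nat.mul_le_mul_left _ (Nat.mul_le_mul_left _ (Nat.le_of_dvd hpos hA))
    _ ≤ 3 ^ m := by rw [← hNcard, hn]; exact affine_le hp hn1
where
  smul_orbit_iff_aux {α : Type} {P : Subgroup (Equiv.Perm α)} {x : α} (g : P) (z : α) :
      (g : Equiv.Perm α) z ∈ orbit P x ↔ z ∈ orbit P x := by
    constructor
    · rintro ⟨k, hk⟩
      exact ⟨g⁻¹ * k, by simp only at hk ⊢; rw [mul_smul, hk]; exact inv_smul_smul g z⟩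
    · rintro ⟨k, hk⟩
      exact ⟨g * k, by simp only at hk ⊢; rw [mul_smul, hk]; rfl⟩

theorem card_solvable_perm {α : Type} [Finite α] [Nonempty α] (P : Subgroup (Equiv.Perm α))
    (hP : Group.IsSolvable P) : Nat.card P ≤ 3 ^ (Nat.card α - 1) := by
  have h := card_solvable_perm_aux _ α P hP rfl Nat.card_pos
  have hpos : 0 < Nat.card α := Nat.card_pos
  rw [show (3 : ℕ) ^ Nat.card α = 3 * 3 ^ (Nat.card α - 1) by
    rw [← pow_succ', Nat.sub_add_cancel hpos]] at h
  exact Nat.le_of_mul_le_mul_left h (by norm_num)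

end CfsgLib.SolvClasses
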