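import Mathlib
import Cfsg.Prelude.Def_Solvable
import Cfsg.Agent.Lib.Base.Fitting
import Cfsg.Agent.Lib.Chars.Irr
import Cfsg.Agent.Lib.FgsC.WeightOrbits
import Cfsg.Agent.Lib.AltSection.Eig
import Cfsg.Agent.Lib.SolvClasses.Basic
import Cfsg.Agent.Lib.SolvClasses.Perm

/-!
# Reducible and imprimitive linear groups

The reduction of the class bound modulo the Fitting subgroup to groups all of whose abelian normal
subgroups are scalar.
-/

set_option autoImplicit false
set_option linter.style.haveILetI false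
set_option linter.unusedSectionVars false

namespace CfsgLib.SolvClasses

open Cfsg

/-- The bound for groups of degree `r`. -/
def Bnd (r : ℕ) : Prop :=
  ∀ (G : Type) [Group G] [Finite G] (V : Type) [AddCommGroup V] [Module ℂ V]
    [FiniteDimensional ℂ V] (ρ : Representation ℂ G V), Function.Injective ρ →
    Group.IsSolvable G → Module.finrank ℂ V = r → MaxK (G ⧸ fittingSubgroup G) (3 ^ (r - 1))

/-- Finitely many factors, of several kinds. -/
theorem maxK_piFin : ∀ {n : ℕ} (M : Fin n → Type) [∀ i, Group (M i)] [∀ i, Finite (M i)]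
    (a : Fin n → ℕ), (∀ i, MaxK (M i) (a i)) → MaxK (∀ i, M i) (∏ i, a i) := by
  intro n
  induction n with
  | zero =>
    intro M _ _ a _
    exact maxK_card.mono (by simp)
  | succ n ih =>
    intro M _ _ a h
    rw [Fin.prod_univ_succ]
    refine ((h 0).prod (ih (fun i => M i.succ) _ fun i => h i.succ)).of_injective
      { toFun := fun f => (f 0, fun i => f i.succ)
        map_one' := rfl
        map_mul' := fun _ _ => rfl } ?_
    intro f g e
    funext i
    exact Fin.cases (congrArg Prod.fst e :) (fun j => congrFun (congrArg Prod.snd e :) j) i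

variable {G : Type} [Group G] [Finite G]

/-- Finitely many kernels meeting in a nilpotent group. -/
theorem maxK_of_family {ι : Type} [Fintype ι] {M : ι → Type} [∀ i, Group (M i)] [∀ i, Finite (M i)]
    (φ : ∀ i, G →* M i) (hker : ∀ N : Subgroup G, N.Normal → (∀ i, N ≤ (φ i).ker) →
      N ≤ fittingSubgroup G)
    (a : ι → ℕ) (hM : ∀ i, MaxK (M i) (a i)) : MaxK (G ⧸ fittingSubgroup G) (∏ i, a i) := by
  let e := (Fintype.equivFin ι).symm
  let Φ : G →* ∀ j, M (e j) := MonoidHom.pi fun j => φ (e j)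
  have h1 : MaxK (G ⧸ Φ.ker) (∏ i, a i) := by
    rw [← Equiv.prod_comp e a]
    exact (maxK_piFin _ _ fun j => hM (e j)).of_injective _ (QuotientGroup.kerLift_injective Φ)
  have hle : Φ.ker ≤ fittingSubgroup G := hker _ inferInstance fun i g hg => by
    have h := congrFun (MonoidHom.mem_ker.1 hg) (Fintype.equivFin ι i)
    show φ i g = 1
    have key : ∀ i', e (Fintype.equivFin ι i) = i' → φ i' g = 1 := by
      rintro _ rfl; exact h
    exact key i ((Fintype.equivFin ι).symm_apply_apply i)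
  refine h1.of_surjective (QuotientGroup.map Φ.ker (fittingSubgroup G) (MonoidHom.id G) hle) ?_
  intro x
  induction x using QuotientGroup.induction_on with
  | _ g => exact ⟨g, rfl⟩

/-- A quotient by a subgroup generated modulo the Fitting subgroup by a normal subgroup. -/
theorem maxK_step {X : Type} [Group X] (f : G →* X) (C : Subgroup G) [C.Normal]
    (hgen : ∀ g ∈ f.ker, ∃ a ∈ fittingSubgroup G, a⁻¹ * g ∈ C) {a b : ℕ}
    (hC : MaxK (C ⧸ fittingSubgroup C) a) (hX : MaxK f.range b) :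
    MaxK (G ⧸ fittingSubgroup G) (a * b) := by
  let π := QuotientGroup.mk' (fittingSubgroup G)
  haveI : (C.map π).Normal :=
    Subgroup.Normal.map inferInstance π (QuotientGroup.mk'_surjective _)
  refine MaxK.of_normal (C.map π) ?_ ?_
  · let d : C →* C.map π :=
      { toFun := fun c => ⟨π c, ⟨c, c.2, rfl⟩⟩
        map_one' := Subtype.ext (map_one π)
        map_mul' := fun c c' => Subtype.ext (map_mul π (c : G) c') }
    have hle : fittingSubgroup C ≤ d.ker := by
      intro c hc
      refine Subtype.ext ?_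
      show π (c : G) = 1
      exact (QuotientGroup.eq_one_iff _).2
        (Base.map_fittingSubgroup_le_of_isSubnormal (K := C)
          (Subgroup.Normal.isSubnormal inferInstance) ⟨c, hc, rfl⟩)
    refine hC.of_surjective (QuotientGroup.lift _ _ hle) ?_
    rintro ⟨_, c, hc, rfl⟩
    exact ⟨((⟨c, hc⟩ : C) : C ⧸ fittingSubgroup C), rfl⟩
  · let ψ : G →* (G ⧸ fittingSubgroup G) ⧸ C.map π := (QuotientGroup.mk' _).comp π
    have hψ : f.ker ≤ ψ.ker := by
      intro g hg
      obtain ⟨x, hx, hxg⟩ := hgen g hg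
      refine (QuotientGroup.eq_one_iff _).2 ⟨x⁻¹ * g, hxg, ?_⟩
      show π (x⁻¹ * g) = π g
      rw [map_mul, map_inv, show π x = 1 from (QuotientGroup.eq_one_iff _).2 hx, inv_one, one_mul]
    haveI : Finite f.range := Finite.of_surjective _ f.rangeRestrict_surjective
    refine hX.of_surjective ((QuotientGroup.lift f.ker ψ hψ).comp
      (QuotientGroup.quotientKerEquivRange f).symm.toMonoidHom) ?_
    intro y
    obtain ⟨g', rfl⟩ := QuotientGroup.mk'_surjective _ y
    obtain ⟨g, rfl⟩ := QuotientGroup.mk'_surjective _ g'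
    refine ⟨QuotientGroup.quotientKerEquivRange f g, ?_⟩
    simp only [MonoidHom.comp_apply, MulEquiv.coe_toMonoidHom, MulEquiv.symm_apply_apply]
    first | rfl | done

section Split

variable {V : Type} [AddCommGroup V] [Module ℂ V] [FiniteDimensional ℂ V]

/-- The action on an invariant subspace. -/
def restr {H : Type} [Group H] (ρ : Representation ℂ H V) (U : Submodule ℂ V)
    (hU : ∀ h, ∀ u ∈ U, ρ h u ∈ U) : Representation ℂ H U where
  toFun h := (ρ h).restrict (hU h)
  map_one' := LinearMap.ext fun u => Subtype.ext (by simp)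
  map_mul' a b := LinearMap.ext fun u => Subtype.ext (by simp)

theorem restr_apply {H : Type} [Group H] (ρ : Representation ℂ H V) (U : Submodule ℂ V)
    (hU : ∀ h, ∀ u ∈ U, ρ h u ∈ U) (h : H) (u : U) : (restr ρ U hU h u : V) = ρ h u := rfl

/-- A sum of invariant subspaces. -/
theorem maxK_of_split (ρ : Representation ℂ G V) (hρ : Function.Injective ρ)
    (hG : Group.IsSolvable G) {ι : Type} [Fintype ι] (U : ι → Submodule ℂ V)
    (hU : ∀ i g, ∀ u ∈ U i, ρ g u ∈ U i) (htop : ⨆ i, U i = ⊤)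
    (hB : ∀ i, Bnd (Module.finrank ℂ (U i))) :
    MaxK (G ⧸ fittingSubgroup G) (∏ i, 3 ^ (Module.finrank ℂ (U i) - 1)) := by
  classical
  haveI := hG
  let σ : ∀ i, G →* (Module.End ℂ (U i))ˣ := fun i => MonoidHom.toHomUnits (restr ρ (U i) (hU i))
  let Q := fun i => G ⧸ (σ i).ker
  have hQ : ∀ i, MaxK (Q i ⧸ fittingSubgroup (Q i)) (3 ^ (Module.finrank ℂ (U i) - 1)) := fun i =>
    hB i (Q i) (U i) ((Units.coeHom _).comp (QuotientGroup.kerLift (σ i)))
      (Units.val_injective.comp (QuotientGroup.kerLift_injective _)) inferInstance rfl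
  refine maxK_of_family
    (fun i => (QuotientGroup.mk' (fittingSubgroup (Q i))).comp (QuotientGroup.mk' (σ i).ker))
    (fun N hN hker => ?_) _ hQ
  haveI := hN
  refine Base.le_fittingSubgroup ?_
  let j : N →* ∀ i, fittingSubgroup (Q i) := MonoidHom.pi fun i =>
    ((QuotientGroup.mk' (σ i).ker).comp N.subtype).codRestrict _ fun g =>
      (QuotientGroup.eq_one_iff _).1 (hker i g.2)
  have hj : Function.Injective j := by
    refine (injective_iff_map_eq_one j).2 fun g hg => ?_
    refine Subtype.ext (hρ ?_)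
    rw [OneMemClass.coe_one, map_one]
    refine LinearMap.ext fun v => ?_
    have hfix : ∀ i, U i ≤ LinearMap.eqLocus (ρ g) (1 : Module.End ℂ V) := by
      intro i u hu
      have h1 : ((g : G) : Q i) = 1 := congrArg Subtype.val (congrFun hg i)
      have h2 : σ i g = 1 := MonoidHom.mem_ker.1 ((QuotientGroup.eq_one_iff _).1 h1)
      exact congrArg Subtype.val (LinearMap.congr_fun (congrArg Units.val h2) ⟨u, hu⟩)
    exact (htop ▸ iSup_le hfix : (⊤ : Submodule ℂ V) ≤ _) (Submodule.mem_top (x := v))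
  haveI : ∀ i, Group.IsNilpotent (fittingSubgroup (Q i)) := fun i =>
    Base.isNilpotent_fittingSubgroup _
  exact Group.isNilpotent_congr (MonoidHom.ofInjective hj) |>.2 inferInstance

end Split

variable {V : Type} [AddCommGroup V] [Module ℂ V] [FiniteDimensional ℂ V]
  {ρ : Representation ℂ G V}

/-- Reducible groups. -/
theorem maxK_of_reducible (hρ : Function.Injective ρ) (hG : Group.IsSolvable G)
    {W : Submodule ℂ V} (hW : ∀ g, ∀ w ∈ W, ρ g w ∈ W) (h0 : W ≠ ⊥) (h1 : W ≠ ⊤)
    (hB : ∀ s, s < Module.finrank ℂ V → Bnd s) :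
    MaxK (G ⧸ fittingSubgroup G) (3 ^ (Module.finrank ℂ V - 1)) := by
  obtain ⟨W', hW'⟩ := Chars.exists_isCompl_sub ρ ⟨W, fun g v hv => hW g v hv⟩
  have hadd := Submodule.finrank_add_eq_of_isCompl hW'
  have hW'0 : W'.toSubmodule ≠ ⊥ := fun h => h1 (by
    have h2 := hW'
    rw [h] at h2
    exact eq_top_of_isCompl_bot h2)
  have hp : 0 < Module.finrank ℂ W := by
    haveI := Submodule.nontrivial_iff_ne_bot.2 h0
    exact Module.finrank_pos
  have hp' : 0 < Module.finrank ℂ W'.toSubmodule := by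
    haveI := Submodule.nontrivial_iff_ne_bot.2 hW'0
    exact Module.finrank_pos
  dsimp only at hadd hW'
  let U : Bool → Submodule ℂ V := fun b => bif b then W else W'.toSubmodule
  have h := maxK_of_split ρ hρ hG U
    (fun b g u hu => by cases b; exacts [W'.apply_mem_toSubmodule g hu, hW g u hu])
    (by rw [iSup_bool_eq]; exact hW'.sup_eq_top)
    (fun b => by cases b; exacts [hB _ (show Module.finrank ℂ W'.toSubmodule < _ by omega), hB _ (show Module.finrank ℂ W < _ by omega)])
  refine h.mono ?_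
  rw [Fintype.prod_bool, ← pow_add]
  refine Nat.pow_le_pow_right (by norm_num) ?_
  show Module.finrank ℂ W - 1 + (Module.finrank ℂ W'.toSubmodule - 1) ≤ _
  omega

open FgsC.WeightOrbits in
/-- An abelian normal subgroup with a nonscalar element. -/
theorem maxK_of_imprimitive (hρ : Function.Injective ρ) (hG : Group.IsSolvable G)
    [Nontrivial V]
    (hirr : ∀ W : Submodule ℂ V, (∀ g, ∀ w ∈ W, ρ g w ∈ W) → W = ⊥ ∨ W = ⊤)
    (A : Subgroup G) [A.Normal] (hab : ∀ a ∈ A, ∀ b ∈ A, Commute a b) {a₀ : G} (ha₀ : a₀ ∈ A)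
    (hns : ¬ ∃ c : ℂ, ρ a₀ = c • (1 : Module.End ℂ V))
    (hB : ∀ s, s < Module.finrank ℂ V → Bnd s) :
    MaxK (G ⧸ fittingSubgroup G) (3 ^ (Module.finrank ℂ V - 1)) := by
  classical
  haveI := hG
  obtain ⟨χ', hχ'⟩ := FgsC.HallHigman.exists_weight (ρ := ρ) A
    fun a ha b hb => by rw [← map_mul, ← map_mul, (hab a ha b hb).eq]
  let χ : A → ℂ := fun a => χ' a
  have hχ : wsp ρ A χ ≠ ⊥ := fun h => hχ' (le_bot_iff.1 (h ▸ fun v hv a => hv a a.2))
  let Ω := {f : A → ℂ // ∃ g, tr A g χ = f}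
  haveI : Finite Ω := Finite.of_surjective (fun g : G => (⟨tr A g χ, g, rfl⟩ : Ω))
    fun ⟨_, g, rfl⟩ => ⟨g, rfl⟩
  haveI : Fintype Ω := Fintype.ofFinite _
  haveI : Nonempty Ω := ⟨⟨_, 1, rfl⟩⟩
  letI : MulAction G Ω :=
    { smul := fun g f => ⟨tr A g f.1, by
        obtain ⟨g', hg'⟩ := f.2
        exact ⟨g * g', by rw [← hg', tr_tr]⟩⟩
      one_smul := fun f => Subtype.ext (tr_one A _)
      mul_smul := fun g h f => Subtype.ext (tr_tr A g h _).symm }
  let U : Ω → Submodule ℂ V := fun f => wsp ρ A f.1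
  have hmap : ∀ (g : G) (f : Ω), ∀ u ∈ U f, ρ g u ∈ U (g • f) := fun g f u hu =>
    rho_mem ρ A hu g
  have hind : iSupIndep U := (indep (ρ := ρ) (A := A)).comp Subtype.val_injective
  have htop : ⨆ f, U f = ⊤ := by
    refine (hirr _ fun g w hw => ?_).resolve_left fun h => hχ (le_bot_iff.1 ?_)
    · refine Submodule.iSup_induction U (motive := fun w => ρ g w ∈ ⨆ f, U f) hw
        (fun f u hu => Submodule.mem_iSup_of_mem _ (hmap g f u hu)) ?_ fun u v hu hv => ?_
      · rw [map_zero]; exact zero_mem _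
      · rw [map_add]; exact add_mem hu hv
    · rw [← h]
      refine le_trans (le_of_eq ?_) (le_iSup U ⟨tr A 1 χ, 1, rfl⟩)
      simp only [U, tr_one]
  -- equal dimensions
  have hle : ∀ (g : G) (f : Ω), Module.finrank ℂ (U f) ≤ Module.finrank ℂ (U (g • f)) := by
    intro g f
    refine LinearMap.finrank_le_finrank_of_injective (f := (ρ g).restrict (hmap g f)) ?_
    intro u v huv
    refine Subtype.ext ?_
    have h := congrArg (fun x : U (g • f) => ρ g⁻¹ (x : V)) huv
    simpa [FgsC.HallHigman.rho_apply_inv] using h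
  obtain ⟨s, hs⟩ : ∃ s, ∀ f, Module.finrank ℂ (U f) = s := by
    refine ⟨Module.finrank ℂ (U ⟨tr A 1 χ, 1, rfl⟩), fun f => ?_⟩
    obtain ⟨_, g, rfl⟩ := f
    have e : g • (⟨tr A 1 χ, 1, rfl⟩ : Ω) = ⟨tr A g χ, g, rfl⟩ :=
      Subtype.ext (show tr A g (tr A 1 χ) = _ by rw [tr_one])
    refine le_antisymm ?_ (e ▸ hle g _)
    have h := hle g⁻¹ ⟨tr A g χ, g, rfl⟩
    have e' : g⁻¹ • (⟨tr A g χ, g, rfl⟩ : Ω) = ⟨tr A 1 χ, 1, rfl⟩ := by rw [← e, inv_smul_smul]
    rwa [e'] at h
  have hdim : Module.finrank ℂ V = Nat.card Ω * s := by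
    rw [AltSection.finrank_sum_of_indep hind htop, Finset.sum_congr rfl fun f _ => hs f,
      Finset.sum_const, Finset.card_univ, smul_eq_mul, Nat.card_eq_fintype_card]
  have hs1 : 1 ≤ s := by
    rw [← hs ⟨tr A 1 χ, 1, rfl⟩, Nat.one_le_iff_ne_zero]
    intro h
    exact hχ (by simpa [U, tr_one] using Submodule.finrank_eq_zero.1 h)
  have hm : 2 ≤ Nat.card Ω := by
    by_contra h
    haveI : Subsingleton Ω := Finite.card_le_one_iff_subsingleton.1 (by omega)
    refine hns ⟨χ ⟨a₀, ha₀⟩, LinearMap.ext fun v => ?_⟩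
    have hv : v ∈ U ⟨tr A 1 χ, 1, rfl⟩ := by
      have h2 : ⨆ f, U f ≤ U ⟨tr A 1 χ, 1, rfl⟩ := iSup_le fun f => by
        rw [Subsingleton.elim f ⟨tr A 1 χ, 1, rfl⟩]
      exact h2 (htop ▸ Submodule.mem_top)
    have h3 := hv ⟨a₀, ha₀⟩
    simpa [tr_one] using h3
  have hlt : s < Module.finrank ℂ V := by rw [hdim]; exact lt_mul_of_one_lt_left (by omega) (by omega)
  let π : G →* Equiv.Perm Ω := MulAction.toPermHom G Ω
  have hker : ∀ (f : Ω) (g : π.ker), ∀ u ∈ U f, ρ g u ∈ U f := by
    intro f g u hu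
    have e : (g : G) • f = f := congrArg (fun σ : Equiv.Perm Ω => σ f) g.2
    have h := hmap g f u hu
    rwa [e] at h
  have hsplit := maxK_of_split (G := π.ker) (ρ.comp π.ker.subtype)
    (hρ.comp π.ker.subtype_injective) inferInstance U hker htop (fun f => (hs f).symm ▸ hB s hlt)
  have hperm : MaxK π.range (3 ^ (Nat.card Ω - 1)) := maxK_card.mono
    (card_solvable_perm π.range (Group.isSolvable_of_surjective π.rangeRestrict_surjective))
  refine (maxK_step π π.ker (fun g hg => ⟨1, one_mem _, by simpa using hg⟩) hsplit hperm).mono ?_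
  rw [Finset.prod_congr rfl fun f _ => by rw [hs f], Finset.prod_const, Finset.card_univ,
    ← Nat.card_eq_fintype_card, ← pow_mul, ← pow_add, hdim]
  refine Nat.pow_le_pow_right (by norm_num) (le_of_eq ?_)
  obtain ⟨t, rfl⟩ : ∃ t, s = t + 1 := ⟨s - 1, by omega⟩
  rw [Nat.add_sub_cancel, mul_add, mul_one, mul_comm t]
  omega

end CfsgLib.SolvClasses
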