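import Cfsg.Agent.Lib.SolvClasses.Basic
import Cfsg.Agent.Lib.Classical.SympOrder
import Cfsg.Agent.Lib.Classical.SympSimple

/-!
# The symplectic layers which need no structure

Two-dimensional layers, the layer `Sp₄(3)`, and the layers where the order of the symplectic
group is already below `3 ^ (p ^ n - 1)`.
-/

set_option autoImplicit false

namespace CfsgLib.SolvClasses

open Matrix

/-- If every element outside the centre has a centraliser of order at most `c`, then every
subgroup has fewer than `|Z| + c` classes. -/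
theorem maxK_of_centralizer {X : Type*} [Group X] [Finite X] {z c : ℕ}
    (hz : Nat.card (Subgroup.center X) ≤ z) (hc1 : 1 ≤ c)
    (hc : ∀ g : X, g ∉ Subgroup.center X → Nat.card {x : X // Commute g x} ≤ c) :
    MaxK X (z + c - 1) := by
  classical
  intro H
  haveI := Fintype.ofFinite H
  set A := Finset.univ.filter (fun h : H => (h : X) ∈ Subgroup.center X) with hA
  have hAz : A.card ≤ z := by
    refine le_trans ?_ hz
    haveI := Fintype.ofFinite (Subgroup.center X)
    rw [Nat.card_eq_fintype_card]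
    refine Finset.card_le_card_of_injOn
      (fun h => if hh : (h : X) ∈ Subgroup.center X then (⟨h, hh⟩ : Subgroup.center X) else 1)
      (fun _ _ => Finset.mem_univ _) ?_
    intro a ha b hb e
    simp only [hA, Finset.coe_filter, Finset.mem_univ, true_and, Set.mem_setOf_eq] at ha hb
    simp only [dif_pos ha, dif_pos hb, Subtype.mk.injEq] at e
    exact Subtype.ext e
  have hA1 : 1 ≤ A.card :=
    Finset.card_pos.2 ⟨1, by simp [hA]⟩
  have hbound : ∀ h : H, Nat.card {x : H // Commute h x} ≤
      if h ∈ A then Fintype.card H else c := by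
    intro h
    by_cases hh : h ∈ A
    · rw [if_pos hh, Nat.card_eq_fintype_card]
      exact Fintype.card_subtype_le _
    · rw [if_neg hh]
      refine le_trans (Nat.card_le_card_of_injective
        (fun x : {x : H // Commute h x} => (⟨(x.1 : X), x.2.map H.subtype⟩ :
          {x : X // Commute (h : X) x})) ?_) (hc _ fun hm => hh (by simp [hA, hm]))
      intro x y e
      exact Subtype.ext (Subtype.ext (congrArg Subtype.val e :))
  have hsum : Nat.card (ConjClasses H) * Fintype.card H ≤
      A.card * Fintype.card H + (Fintype.card H - A.card) * c := by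
    rw [← Nat.card_eq_fintype_card, ← card_comm_eq_card_conjClasses_mul_card,
      Nat.card_congr (Equiv.subtypeProdEquivSigmaSubtype fun a b : H => Commute a b),
      Nat.card_sigma, Nat.card_eq_fintype_card]
    refine (Finset.sum_le_sum fun h _ => hbound h).trans ?_
    rw [Finset.sum_ite, Finset.filter_mem_eq_inter, Finset.univ_inter, Finset.sum_const,
      Finset.sum_const, smul_eq_mul, smul_eq_mul]
    have : (Finset.univ.filter fun x : H => x ∉ A).card = Fintype.card H - A.card := by
      rw [Finset.filter_not, Finset.filter_mem_eq_inter, Finset.univ_inter,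
        Finset.card_sdiff_of_subset (Finset.subset_univ _), Finset.card_univ]
    rw [this]
  have hAH : A.card ≤ Fintype.card H := A.card_le_univ
  by_contra hlt
  have h1 : A.card + c ≤ Nat.card (ConjClasses H) := by omega
  have h2 := Nat.mul_le_mul_right (Fintype.card H) h1
  have h3 : (Fintype.card H - A.card) * c < c * Fintype.card H := by
    rw [mul_comm c]
    exact Nat.mul_lt_mul_of_pos_right (by omega) hc1
  rw [add_mul] at h2
  omega

/-- The two-dimensional layers. -/
theorem maxK_symplectic_one {p : ℕ} [Fact p.Prime] :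
    MaxK (Matrix.symplecticGroup (Fin 1) (ZMod p)) (3 ^ (p ^ 1 - 1)) := by
  have hp := (Fact.out : p.Prime).two_le
  refine (maxK_of_centralizer (z := Nat.gcd 2 (p - 1)) (c := p ^ 2 - 1) ?_ ?_ ?_).mono ?_
  · rw [CfsgLib.Classical.card_center_sp, Nat.card_zmod]
  · have : 2 ^ 2 ≤ p ^ 2 := Nat.pow_le_pow_left hp 2
    omega
  · intro g hg
    classical
    obtain ⟨v, hv⟩ : ∃ v : Fin 1 ⊕ Fin 1 → ZMod p, ∀ c : ZMod p, g.1 *ᵥ v ≠ c • v := by
      by_contra h
      push_neg at h
      exact hg (CfsgLib.Classical.mem_center_sp_iff.2 (CfsgLib.Classical.sp_eq_one_or_neg_one h))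
    have hv0 : v ≠ 0 := fun h => hv 0 (by simp [h])
    have hinj : Function.Injective
        (fun ab : ZMod p × ZMod p => ab.1 • v + ab.2 • (g.1 *ᵥ v)) := by
      rintro ⟨a, b⟩ ⟨a', b'⟩ e
      simp only at e
      have e' : (a - a') • v + (b - b') • (g.1 *ᵥ v) = 0 := by
        rw [sub_smul, sub_smul, ← sub_eq_zero.2 e]
        abel
      have hb : b - b' = 0 := by
        by_contra hb
        apply hv (-((b - b')⁻¹ * (a - a')))
        have h2 : (b - b') • (g.1 *ᵥ v) = -((a - a') • v) := by
          rw [eq_neg_iff_add_eq_zero, add_comm]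
          exact e'
        have h3 := congrArg (fun w => (b - b')⁻¹ • w) h2
        simpa [smul_smul, inv_mul_cancel₀ hb, smul_neg, neg_smul] using h3
      have ha : a - a' = 0 := by
        rw [hb, zero_smul, add_zero, smul_eq_zero] at e'
        exact e'.resolve_right hv0
      exact Prod.ext (sub_eq_zero.1 ha) (sub_eq_zero.1 hb)
    have hsurj := ((Fintype.bijective_iff_injective_and_card _).2
      ⟨hinj, by simp [ZMod.card, sq]⟩).2
    have hdet : ∀ x : {x // Commute g x}, x.1.1 *ᵥ v ≠ 0 := by
      intro x h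
      apply hv0
      have h' := congrArg (fun w => (x.1⁻¹).1 *ᵥ w) h
      simpa [Matrix.mulVec_mulVec, ← Submonoid.coe_mul] using h'
    have hcard : Nat.card {w : Fin 1 ⊕ Fin 1 → ZMod p // w ≠ 0} = p ^ 2 - 1 := by
      rw [Nat.card_eq_fintype_card, Fintype.card_subtype_compl, Fintype.card_subtype_eq]
      simp [ZMod.card]
    refine le_trans (Nat.card_le_card_of_injective
      (fun x : {x // Commute g x} =>
        (⟨x.1.1 *ᵥ v, hdet x⟩ : {w : Fin 1 ⊕ Fin 1 → ZMod p // w ≠ 0})) ?_) hcard.le
    intro x y e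
    have e' : x.1.1 *ᵥ v = y.1.1 *ᵥ v := congrArg Subtype.val e
    refine Subtype.ext (Subtype.ext (Matrix.ext_iff_mulVec.2 fun w => ?_))
    obtain ⟨⟨a, b⟩, rfl⟩ := hsurj w
    have hx : x.1.1 *ᵥ (g.1 *ᵥ v) = g.1 *ᵥ (x.1.1 *ᵥ v) := by
      rw [Matrix.mulVec_mulVec, Matrix.mulVec_mulVec, ← Submonoid.coe_mul, ← Submonoid.coe_mul,
        x.2.eq]
    have hy : y.1.1 *ᵥ (g.1 *ᵥ v) = g.1 *ᵥ (y.1.1 *ᵥ v) := by
      rw [Matrix.mulVec_mulVec, Matrix.mulVec_mulVec, ← Submonoid.coe_mul, ← Submonoid.coe_mul,
        y.2.eq]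
    simp only [Matrix.mulVec_add, Matrix.mulVec_smul, hx, hy, e']
  · rw [pow_one]
    rcases eq_or_lt_of_le hp with h | h
    · subst h
      norm_num
    · have h2 : Nat.gcd 2 (p - 1) ≤ 2 := Nat.le_of_dvd (by norm_num) (Nat.gcd_dvd_left _ _)
      have h3 : ∀ k : ℕ, (k + 3) ^ 2 ≤ 3 ^ (k + 2) := by
        intro k
        induction k with
        | zero => norm_num
        | succ k ih =>
          rw [show k + 1 + 2 = k + 2 + 1 by omega, pow_succ 3 (k + 2)]
          nlinarith [Nat.mul_le_mul_right 3 ih, Nat.zero_le (k * k)]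
      have h4 := h3 (p - 3)
      rw [show p - 3 + 3 = p by omega, show p - 3 + 2 = p - 1 by omega] at h4
      generalize p ^ 2 = a at h4 ⊢
      generalize Nat.gcd 2 (p - 1) = b at h2 ⊢
      have := Nat.one_le_pow (p - 1) 3 (by norm_num)
      omega

theorem card_symplectic_le {p n : ℕ} [Fact p.Prime] :
    Nat.card (Matrix.symplecticGroup (Fin n) (ZMod p)) ≤ p ^ (2 * n ^ 2 + n) := by
  rw [CfsgLib.Classical.card_symplecticGroup, Nat.card_zmod, Fintype.card_fin]
  have h : ∀ m : ℕ, ∏ i ∈ Finset.range m, (p ^ (2 * (i + 1)) - 1) ≤ p ^ (m * (m + 1)) := by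
    intro m
    induction m with
    | zero => simp
    | succ m ih =>
      rw [Finset.prod_range_succ, show (m + 1) * (m + 1 + 1) = m * (m + 1) + 2 * (m + 1) by ring,
        pow_add]
      exact Nat.mul_le_mul ih (Nat.sub_le _ _)
  refine (Nat.mul_le_mul_left _ (h n)).trans (le_of_eq ?_)
  rw [← pow_add]
  congr 1
  ring

/-- The order bound fits outside a short list. -/
theorem pow_le_three_pow {p n : ℕ} (hp : p.Prime) (hn : 2 ≤ n)
    (h : ¬ (p = 3 ∧ n = 2)) (h2 : ¬ (p = 2 ∧ n ≤ 5)) :
    p ^ (2 * n ^ 2 + n) ≤ 3 ^ (p ^ n - 1) := by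
  rcases Nat.lt_or_ge p 5 with hp5 | hp5
  · have hp2 := hp.two_le
    interval_cases p
    · have hn6 : 6 ≤ n := by omega
      rcases eq_or_lt_of_le hn6 with h6 | h7
      · subst h6
        norm_num
      · refine (Nat.pow_le_pow_left (by norm_num : 2 ≤ 3) _).trans
          (Nat.pow_le_pow_right (by norm_num) ?_)
        have hk : ∀ k : ℕ, 2 * (k + 7) ^ 2 + (k + 7) + 1 ≤ 2 ^ (k + 7) := by
          intro k
          induction k with
          | zero => norm_num
          | succ k ih =>
            rw [show k + 1 + 7 = k + 7 + 1 by omega, pow_succ 2 (k + 7)]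
            nlinarith [ih]
        have := hk (n - 7)
        rw [show n - 7 + 7 = n by omega] at this
        omega
    · have hn3 : 3 ≤ n := by omega
      refine Nat.pow_le_pow_right (by norm_num) ?_
      have hk : ∀ k : ℕ, 2 * (k + 3) ^ 2 + (k + 3) + 1 ≤ 3 ^ (k + 3) := by
        intro k
        induction k with
        | zero => norm_num
        | succ k ih =>
          rw [show k + 1 + 3 = k + 3 + 1 by omega, pow_succ 3 (k + 3)]
          nlinarith [ih]
      have := hk (n - 3)
      rw [show n - 3 + 3 = n by omega] at this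
      omega
    · exact absurd hp (by norm_num)
  · have hexp : (2 * n ^ 2 + n) * p ≤ 2 * p ^ n := by
      have hk : ∀ k : ℕ, (2 * (k + 2) ^ 2 + (k + 2)) * p ≤ 2 * p ^ (k + 2) := by
        intro k
        induction k with
        | zero =>
          rw [show 0 + 2 = 2 from rfl]
          nlinarith [Nat.mul_le_mul_right p hp5]
        | succ k ih =>
          rw [show k + 1 + 2 = k + 2 + 1 by omega, pow_succ p (k + 2)]
          have h5 : (2 * (k + 2 + 1) ^ 2 + (k + 2 + 1)) * p ≤
              (2 * (k + 2) ^ 2 + (k + 2)) * p * p := by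
            refine le_trans ?_ (Nat.mul_le_mul_left _ hp5)
            have : 2 * (k + 2 + 1) ^ 2 + (k + 2 + 1) ≤ 5 * (2 * (k + 2) ^ 2 + (k + 2)) := by
              nlinarith
            calc (2 * (k + 2 + 1) ^ 2 + (k + 2 + 1)) * p
                ≤ 5 * (2 * (k + 2) ^ 2 + (k + 2)) * p := Nat.mul_le_mul_right _ this
              _ = (2 * (k + 2) ^ 2 + (k + 2)) * p * 5 := by ring
          calc (2 * (k + 2 + 1) ^ 2 + (k + 2 + 1)) * p
              ≤ (2 * (k + 2) ^ 2 + (k + 2)) * p * p := h5
            _ ≤ 2 * p ^ (k + 2) * p := Nat.mul_le_mul_right _ ih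
            _ = 2 * (p ^ (k + 2) * p) := by ring
      have := hk (n - 2)
      rwa [show n - 2 + 2 = n by omega] at this
    have h3p : p ^ 3 ≤ 3 ^ p := by
      have hk : ∀ k : ℕ, (k + 3) ^ 3 ≤ 3 ^ (k + 3) := by
        intro k
        induction k with
        | zero => norm_num
        | succ k ih =>
          rw [show k + 1 + 3 = k + 3 + 1 by omega, pow_succ 3 (k + 3)]
          nlinarith [ih, Nat.mul_le_mul_left (k + 3) (Nat.mul_le_mul_left (k + 3) (show 3 ≤ k + 3 by omega))]
      have := hk (p - 3)
      rwa [show p - 3 + 3 = p by omega] at this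
    refine (Nat.pow_le_pow_iff_left (show 3 ≠ 0 by norm_num)).1 ?_
    rw [← pow_mul, mul_comm (2 * n ^ 2 + n), pow_mul]
    refine (Nat.pow_le_pow_left h3p _).trans ?_
    rw [← pow_mul, ← pow_mul]
    refine Nat.pow_le_pow_right (by norm_num) ?_
    have hpn : 25 ≤ p ^ n :=
      le_trans (Nat.pow_le_pow_left hp5 2) (Nat.pow_le_pow_right (by omega) hn)
    rw [mul_comm p]
    omega

/-- The layers with a small symplectic group. -/
theorem maxK_symplectic_big {p n : ℕ} [Fact p.Prime] (hn : 2 ≤ n)
    (h : ¬ (p = 3 ∧ n = 2)) (h2 : ¬ (p = 2 ∧ n ≤ 5))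
    (X : Subgroup (Matrix.symplecticGroup (Fin n) (ZMod p))) : MaxK X (3 ^ (p ^ n - 1)) :=
  maxK_card.mono ((Subgroup.card_le_card_group X).trans
    (card_symplectic_le.trans (pow_le_three_pow Fact.out hn h h2)))

/-- A solvable subgroup of `Sp₄(3)` has index more than seven. -/
theorem maxK_symplectic_four_three (X : Subgroup (Matrix.symplecticGroup (Fin 2) (ZMod 3)))
    (hsolv : Group.IsSolvable X) : MaxK X (3 ^ (3 ^ 2 - 1)) := by
  refine maxK_card.mono ?_
  by_contra hlt
  push_neg at hlt
  have hcard : Nat.card (Matrix.symplecticGroup (Fin 2) (ZMod 3)) = 51840 := by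
    rw [CfsgLib.Classical.card_symplecticGroup, Nat.card_zmod, Fintype.card_fin]
    decide
  have hidx : X.index ≤ 7 := by
    have h1 := X.card_mul_index
    rw [hcard] at h1
    by_contra h8
    push_neg at h8
    have : 6562 * 8 ≤ Nat.card X * X.index := Nat.mul_le_mul (by norm_num at hlt; omega) h8
    omega
  have hperf : commutator (Matrix.symplecticGroup (Fin 2) (ZMod 3)) = ⊤ :=
    CfsgLib.Classical.sp_commutator_eq_top' (Or.inr (Or.inl ⟨by simp, by simp⟩))
  have hdvd : X.normalCore.index ∣ Nat.factorial X.index := by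
    rw [Subgroup.normalCore_eq_ker, Subgroup.index_ker, Subgroup.index_eq_card]
    refine (Subgroup.card_subgroup_dvd_card _).trans ?_
    rw [Nat.card_perm]
  haveI := X.normalCore_normal
  rcases CfsgLib.Classical.normal_sp_le_center_or_eq_top (by simp) hperf X.normalCore with hc | hc
  · have hz : Nat.card X.normalCore ≤ 2 :=
      (Subgroup.card_le_of_le hc).trans (by
        rw [CfsgLib.Classical.card_center_sp, Nat.card_zmod]
        decide)
    have h1 := X.normalCore.card_mul_index
    rw [hcard] at h1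
    have h2 : X.normalCore.index ≤ Nat.factorial 7 :=
      (Nat.le_of_dvd (Nat.factorial_pos _) hdvd).trans (Nat.factorial_le hidx)
    have h3 := Nat.mul_le_mul hz h2
    rw [show Nat.factorial 7 = 5040 from rfl, h1] at h3
    omega
  · have hX : X = ⊤ := top_le_iff.1 (hc ▸ X.normalCore_le)
    subst hX
    haveI := hsolv
    let e : Matrix.symplecticGroup (Fin 2) (ZMod 3) ≃*
        (⊤ : Subgroup (Matrix.symplecticGroup (Fin 2) (ZMod 3))) := Subgroup.topEquiv.symm
    haveI : Group.IsSolvable (Matrix.symplecticGroup (Fin 2) (ZMod 3)) :=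
      Group.isSolvable_of_isSolvable_injective (f := e.toMonoidHom) e.injective
    have hne : Nontrivial (Matrix.symplecticGroup (Fin 2) (ZMod 3)) :=
      (Finite.one_lt_card_iff_nontrivial).1 (by rw [hcard]; norm_num)
    exact (Group.IsSolvable.commutator_lt_top_of_nontrivial
      (Matrix.symplecticGroup (Fin 2) (ZMod 3))).ne hperf

end CfsgLib.SolvClasses
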