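import Mathlib
import Cfsg.Agent.Lib.Base.MinimalNormal
import Cfsg.Agent.Lib.Geometry.SymplecticBasis
import Cfsg.Agent.Lib.FgsC.HallHigman
import Cfsg.Agent.Lib.SolvClasses.Clifford

/-!
# Linear groups with all abelian normal subgroups scalar

The commutator pairing on a minimal normal subgroup modulo the scalars, and the resulting bound.
-/

set_option autoImplicit false
set_option linter.style.haveILetI false
set_option linter.unusedSectionVars false

namespace CfsgLib.SolvClasses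

open Cfsg
open scoped commutatorElement

/-- The bound for solvable irreducible groups of symplectic matrices. -/
def LayerBound : Prop :=
  ∀ (p n : ℕ) [Fact p.Prime] (X : Subgroup (Matrix.symplecticGroup (Fin n) (ZMod p))), 1 ≤ n →
    Group.IsSolvable X →
    (∀ U : Submodule (ZMod p) (Fin n ⊕ Fin n → ZMod p), (∀ x ∈ X, ∀ u ∈ U,
      Matrix.mulVec ((x : Matrix.symplecticGroup (Fin n) (ZMod p)) :
        Matrix (Fin n ⊕ Fin n) (Fin n ⊕ Fin n) (ZMod p)) u ∈ U) → U = ⊥ ∨ U = ⊤) →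
    MaxK X (3 ^ (p ^ n - 1))

variable {G : Type} [Group G] {V : Type} [AddCommGroup V] [Module ℂ V]

/-- `g` and `a` commute up to the scalar `c`. -/
def Tw (ρ : Representation ℂ G V) (g a : G) (c : ℂ) : Prop := ρ (g * a) = c • ρ (a * g)

variable {ρ : Representation ℂ G V}

theorem Tw.unique [Nontrivial V] {g a : G} {c d : ℂ} (h : Tw ρ g a c) (h' : Tw ρ g a d) : c = d := by
  have h0 : (c - d) • ρ (a * g) = 0 := by rw [sub_smul, ← h, ← h', sub_self]
  exact sub_eq_zero.1 ((smul_eq_zero.1 h0).resolve_right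
    (FgsC.HallHigman.rho_mul_left_ne_zero (ρ := ρ) _))

theorem Tw.one_self (g : G) : Tw ρ g g 1 := by rw [Tw, one_smul]

theorem Tw.one_left (a : G) : Tw ρ 1 a 1 := by rw [Tw, one_smul, one_mul, mul_one]

theorem Tw.mul_right {g a b : G} {c d : ℂ} (h : Tw ρ g a c) (h' : Tw ρ g b d) :
    Tw ρ g (a * b) (c * d) := by
  unfold Tw at *
  calc ρ (g * (a * b)) = ρ (g * a) * ρ b := by rw [← mul_assoc, map_mul]
    _ = c • (ρ a * ρ (g * b)) := by rw [h, smul_mul_assoc, map_mul, map_mul, mul_assoc]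
    _ = (c * d) • ρ (a * b * g) := by rw [h', mul_smul_comm, smul_smul, ← map_mul, mul_assoc]

theorem Tw.mul_left {g h a : G} {c d : ℂ} (h₁ : Tw ρ g a c) (h₂ : Tw ρ h a d) :
    Tw ρ (g * h) a (c * d) := by
  unfold Tw at *
  calc ρ (g * h * a) = ρ g * ρ (h * a) := by rw [mul_assoc, map_mul]
    _ = d • (ρ (g * a) * ρ h) := by rw [h₂, mul_smul_comm, map_mul, map_mul, mul_assoc]
    _ = (c * d) • ρ (a * (g * h)) := by
      rw [h₁, smul_mul_assoc, smul_smul, mul_comm d, ← map_mul, mul_assoc]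

theorem Tw.conj {g a : G} {c : ℂ} (h : Tw ρ g a c) (x : G) :
    Tw ρ (x * g * x⁻¹) (x * a * x⁻¹) c := by
  unfold Tw at *
  rw [show x * g * x⁻¹ * (x * a * x⁻¹) = x * (g * a) * x⁻¹ by group,
    show x * a * x⁻¹ * (x * g * x⁻¹) = x * (a * g) * x⁻¹ by group, map_mul, map_mul, h,
    mul_smul_comm, smul_mul_assoc, ← map_mul, ← map_mul]

theorem Tw.commute (hρ : Function.Injective ρ) {g a : G} (h : Tw ρ g a 1) : Commute g a :=
  hρ (by rw [Tw, one_smul] at h; exact h)

theorem Tw.scalar_right {z : G} (hz : FgsC.HallHigman.IsScalar ρ z) (g : G) : Tw ρ g z 1 := by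
  obtain ⟨c, hc⟩ := hz
  rw [Tw, one_smul, map_mul, map_mul, hc, mul_smul_comm, mul_one, smul_mul_assoc, one_mul]

theorem Tw.scalar_left {z : G} (hz : FgsC.HallHigman.IsScalar ρ z) (g : G) : Tw ρ z g 1 := by
  obtain ⟨c, hc⟩ := hz
  rw [Tw, one_smul, map_mul, map_mul, hc, mul_smul_comm, mul_one, smul_mul_assoc, one_mul]

theorem Tw.of_commutator {g a : G} {c : ℂ} (h : ρ ⁅g, a⁆ = c • (1 : Module.End ℂ V)) :
    Tw ρ g a c := by
  rw [Tw, show g * a = ⁅g, a⁆ * (a * g) by rw [commutatorElement_def]; group, map_mul, h,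
    smul_mul_assoc, one_mul]

theorem Tw.pow_right {g a : G} {c : ℂ} (h : Tw ρ g a c) : ∀ j : ℕ, Tw ρ g (a ^ j) (c ^ j) := by
  intro j
  induction j with
  | zero => rw [pow_zero, pow_zero, Tw, one_smul, one_mul, mul_one]
  | succ j ih => rw [pow_succ, pow_succ]; exact ih.mul_right h

variable [Finite G] [FiniteDimensional ℂ V]

set_option maxHeartbeats 3200000 in
/-- Groups with all abelian normal subgroups scalar. -/
theorem maxK_of_primitive (hρ : Function.Injective ρ) (hG : Group.IsSolvable G) [Nontrivial V]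
    (hsc : ∀ N : Subgroup G, N.Normal → (∀ a ∈ N, ∀ b ∈ N, Commute a b) →
      ∀ a ∈ N, FgsC.HallHigman.IsScalar ρ a)
    (hB : ∀ s, s < Module.finrank ℂ V → Bnd s) (hSp : LayerBound) :
    MaxK (G ⧸ fittingSubgroup G) (3 ^ (Module.finrank ℂ V - 1)) := by
  classical
  haveI := hG
  set Z := FgsC.HallHigman.scalarSubgroup ρ (⊤ : Subgroup G) with hZ
  have hZmem : ∀ {z}, z ∈ Z ↔ FgsC.HallHigman.IsScalar ρ z := fun {z} =>
    ⟨fun h => h.2, fun h => ⟨trivial, h⟩⟩
  have hZc : ∀ z ∈ Z, ∀ g, Commute g z := fun z hz g =>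
    (Tw.scalar_right (hZmem.1 hz) g).commute hρ
  rcases eq_or_ne Z ⊤ with hZt | hZt
  · -- scalars only
    have hF : fittingSubgroup G = ⊤ := by
      haveI : IsMulCommutative (⊤ : Subgroup G) :=
        ⟨⟨fun x y => Subtype.ext (hZc (y : G) (by rw [hZt]; trivial) _).eq⟩⟩
      exact top_le_iff.1 Base.le_fittingSubgroup_of_isMulCommutative
    refine maxK_card.mono ?_
    rw [← Subgroup.index_eq_card, hF, Subgroup.index_top]
    exact Nat.one_le_pow _ _ (by norm_num)
  let π := QuotientGroup.mk' Z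
  haveI : Nontrivial (G ⧸ Z) := QuotientGroup.nontrivial_iff.2 hZt
  obtain ⟨Ab, hAb⟩ := Base.exists_isMinimalNormal (G := G ⧸ Z)
  haveI := hAb.normal
  obtain ⟨p, hp, hcomm, hexp, -⟩ := hAb.exists_prime inferInstance
  haveI := Fact.mk hp
  set A := Ab.comap π with hA
  have hAmem : ∀ {a}, a ∈ A ↔ (a : G ⧸ Z) ∈ Ab := Iff.rfl
  haveI hAn : A.Normal := Subgroup.Normal.comap inferInstance _
  have hcomA : ∀ a ∈ A, ∀ b ∈ A, ⁅a, b⁆ ∈ Z := fun a ha b hb => by
    rw [← QuotientGroup.eq_one_iff]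
    show π ⁅a, b⁆ = 1
    rw [map_commutatorElement, commutatorElement_eq_one_iff_mul_comm]
    exact congrArg Subtype.val (hcomm.is_comm.comm ⟨π a, ha⟩ ⟨π b, hb⟩)
  have hpowA : ∀ a ∈ A, a ^ p ∈ Z := fun a ha => by
    rw [← QuotientGroup.eq_one_iff, QuotientGroup.mk_pow]
    exact hexp _ ha
  have hAF : A ≤ fittingSubgroup G := by
    refine Base.le_fittingSubgroup (Subgroup.isNilpotent_of_lowerCentralSeries_eq_bot (n := 2)
      (le_bot_iff.1 ((Subgroup.commutator_mono (Subgroup.commutator_le.2 hcomA) le_rfl).trans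
        (le_of_eq ?_))))
    rw [Subgroup.commutator_eq_bot_iff_le_centralizer]
    exact fun z hz => Subgroup.mem_centralizer_iff.2 fun a _ => (hZc z hz a).eq
  -- roots of unity
  have hω := Complex.isPrimitiveRoot_exp p hp.ne_zero
  generalize Complex.exp (2 * Real.pi * Complex.I / p) = ω at hω
  let e : ZMod p → ℂ := fun k => ω ^ k.val
  have he_add : ∀ k l, e (k + l) = e k * e l := fun k l => by
    simp only [e]
    rw [ZMod.val_add, ← pow_add, ← pow_eq_pow_mod _ hω.pow_eq_one]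
  have he0 : e 0 = 1 := by simp [e]
  have he_inj : Function.Injective e := fun k l h =>
    ZMod.val_injective p (hω.pow_inj (ZMod.val_lt _) (ZMod.val_lt _) h)
  -- exponents of commutation
  letI : CommGroup Ab := { (inferInstance : Group Ab) with mul_comm := hcomm.is_comm.comm }
  haveI : Module (ZMod p) (Additive Ab) := AddCommGroup.zmodModule fun x => by
    apply Additive.toMul.injective
    rw [toMul_nsmul, toMul_zero]
    exact Subtype.ext (hexp _ (Additive.toMul x).2)
  haveI : Finite (Additive Ab) := Finite.of_equiv _ Additive.ofMul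
  let cls : ∀ a : G, a ∈ A → Additive Ab := fun a ha => Additive.ofMul ⟨π a, ha⟩
  obtain ⟨l, hl⟩ : ∃ l : Additive Ab → G, ∀ x, π (l x) = ((Additive.toMul x : Ab) : G ⧸ Z) :=
    ⟨fun x => (QuotientGroup.mk'_surjective Z _).choose,
      fun x => (QuotientGroup.mk'_surjective Z _).choose_spec⟩
  have hlA : ∀ x, l x ∈ A := fun x => by
    show π (l x) ∈ Ab
    rw [hl]; exact (Additive.toMul x).2
  have hlcls : ∀ x, cls (l x) (hlA x) = x := fun x => Additive.toMul.injective (Subtype.ext (hl x))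
  have hdiff : ∀ a b : G, π a = π b → ∃ z ∈ Z, b = a * z := fun a b h =>
    ⟨a⁻¹ * b, QuotientGroup.eq.1 h, by group⟩
  have hfun : ∀ g : G, (∀ a ∈ A, ⁅g, a⁆ ∈ Z) → ∃ φ : Additive Ab →ₗ[ZMod p] ZMod p,
      ∀ (a : G) (ha : a ∈ A), Tw ρ g a (e (φ (cls a ha))) := by
    intro g hg
    have hex : ∀ x, ∃ k, Tw ρ g (l x) (e k) := fun x => by
      obtain ⟨c, hc⟩ := hZmem.1 (hg _ (hlA x))
      have ht := Tw.of_commutator hc
      obtain ⟨k, hk⟩ := AltSection.exists_pow_eq hω ((ht.pow_right p).unique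
        (Tw.scalar_right (hZmem.1 (hpowA _ (hlA x))) g))
      exact ⟨k, show Tw ρ g (l x) (ω ^ k.val) from hk ▸ ht⟩
    choose k hk using hex
    have hkey : ∀ a (ha : a ∈ A), Tw ρ g a (e (k (cls a ha))) := by
      intro a ha
      obtain ⟨z, hz, hzeq⟩ := hdiff (l (cls a ha)) a (hl _)
      have h := (hk (cls a ha)).mul_right (Tw.scalar_right (hZmem.1 hz) g)
      rw [mul_one, ← hzeq] at h
      exact h
    have hadd : ∀ x y, k (x + y) = k x + k y := fun x y => he_inj (by
      rw [he_add]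
      refine Tw.unique ?_ ((hk x).mul_right (hk y))
      have hxy : cls (l x * l y) (A.mul_mem (hlA x) (hlA y)) = x + y :=
        Additive.toMul.injective (Subtype.ext (by
          show π (l x * l y) = _
          rw [map_mul, hl, hl]; rfl))
      rw [← hxy]
      exact hkey _ _)
    exact ⟨(AddMonoidHom.mk' k hadd).toZModLinearMap p, hkey⟩
  choose φ hφ using fun x => hfun (l x) (fun a ha => hcomA _ (hlA x) a ha)
  have hφadd : ∀ x y, φ (x + y) = φ x + φ y := fun x y => LinearMap.ext fun v => he_inj (by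
    rw [LinearMap.add_apply, he_add]
    obtain ⟨z, hz, hzeq⟩ := hdiff (l (x + y)) (l x * l y) (by rw [map_mul, hl, hl, hl]; rfl)
    have h1 := (hφ (x + y) (l v) (hlA v)).mul_left (Tw.scalar_left (hZmem.1 hz) (l v))
    have h2 := (hφ x (l v) (hlA v)).mul_left (hφ y (l v) (hlA v))
    rw [mul_one, ← hzeq, hlcls] at h1
    rw [hlcls] at h2
    exact h1.unique h2)
  let B : LinearMap.BilinForm (ZMod p) (Additive Ab) :=
    (AddMonoidHom.mk' φ hφadd).toZModLinearMap p
  have hB_tw : ∀ a (ha : a ∈ A) b (hb : b ∈ A), Tw ρ a b (e (B (cls a ha) (cls b hb))) := by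
    intro a ha b hb
    obtain ⟨z, hz, hzeq⟩ := hdiff (l (cls a ha)) a (hl _)
    have h := (hφ (cls a ha) b hb).mul_left (Tw.scalar_left (hZmem.1 hz) b)
    rw [mul_one, ← hzeq] at h
    exact h
  have hB_l : ∀ x y, Tw ρ (l x) (l y) (e (B x y)) := fun x y => by
    have h := hB_tw _ (hlA x) _ (hlA y)
    rwa [hlcls, hlcls] at h
  have hcomm0 : ∀ x y, B x y = 0 → Commute (l x) (l y) := fun x y h => by
    have h' := hB_l x y
    rw [h, he0] at h'
    exact h'.commute hρ
  have halt : B.IsAlt := fun x => he_inj (((hB_l x x).unique (Tw.one_self _)).trans he0.symm)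
  have hnd : ∀ x, (∀ y, B x y = 0) → x = 0 := by
    intro x hx
    have hmem : l x ∈ A ⊓ Subgroup.centralizer (A : Set G) := by
      refine ⟨hlA x, Subgroup.mem_centralizer_iff.2 fun a ha => ?_⟩
      have h := hB_tw _ (hlA x) a ha
      rw [hlcls, hx, he0] at h
      exact (h.commute hρ).eq.symm
    have h := hsc (A ⊓ Subgroup.centralizer (A : Set G)) inferInstance
      (fun a ha b hb => Subgroup.mem_centralizer_iff.1 hb.2 a ha.1) _ hmem
    refine Additive.toMul.injective (Subtype.ext ?_)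
    rw [← hl]
    exact (QuotientGroup.eq_one_iff _).2 (hZmem.2 h)
  -- a symplectic basis
  obtain ⟨n, k0, b, h1, h2, h3, h4⟩ := Geometry.exists_sympBasis_aux _
    (rfl : Module.finrank (ZMod p) (Additive Ab) = _) B halt
  obtain rfl : k0 = 0 := by
    by_contra h
    exact b.ne_zero _ (hnd _ (h4 ⟨0, Nat.pos_of_ne_zero h⟩))
  let E : Module.Basis (Fin n ⊕ Fin n) (ZMod p) (Additive Ab) :=
    b.reindex ((Equiv.sumEmpty _ _).trans (Equiv.sumComm _ _))
  have hEl : ∀ i, E (Sum.inl i) = b (Sum.inl (Sum.inr i)) := fun i => by simp [E]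
  have hEr : ∀ i, E (Sum.inr i) = b (Sum.inl (Sum.inl i)) := fun i => by simp [E]
  have hrl : ∀ i j, B (E (Sum.inr i)) (E (Sum.inl j)) = if i = j then 1 else 0 := fun i j => by
    rw [hEl, hEr]; exact h1 i j
  have hlr : ∀ i j, B (E (Sum.inl i)) (E (Sum.inr j)) = if i = j then -1 else 0 := fun i j => by
    rw [← halt.neg_eq, hrl]
    by_cases h : i = j
    · simp [h]
    · simp [h, Ne.symm h]
  have hll : ∀ i j, B (E (Sum.inl i)) (E (Sum.inl j)) = 0 := fun i j => by
    rw [hEl, hEl]; exact h3 i j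
  have hrr : ∀ i j, B (E (Sum.inr i)) (E (Sum.inr j)) = 0 := fun i j => by
    rw [hEr, hEr]; exact h2 i j
  have hJ : LinearMap.BilinForm.toMatrix E B = Matrix.J (Fin n) (ZMod p) := by
    ext (i | i) (j | j) <;> rw [LinearMap.BilinForm.toMatrix_apply]
    · rw [hll]; simp [Matrix.J]
    · rw [hlr]; by_cases h : i = j <;> simp [Matrix.J, Matrix.one_apply, h]
    · rw [hrl]; simp [Matrix.J, Matrix.one_apply]
    · rw [hrr]; simp [Matrix.J]
  have hn : 1 ≤ n := by
    by_contra hn0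
    obtain rfl : n = 0 := by omega
    refine hAb.ne_bot ((Subgroup.eq_bot_iff_forall _).2 fun y hy => ?_)
    exact congrArg (fun x : Additive Ab => ((Additive.toMul x : Ab) : G ⧸ Z))
      (E.ext_elem (fun i => isEmptyElim i) : Additive.ofMul (⟨y, hy⟩ : Ab) = 0)
  -- the action by conjugation
  let tfun : G → Module.End (ZMod p) (Additive Ab) := fun g =>
    (MonoidHom.toAdditive (MulAut.conjNormal (π g) : MulAut Ab).toMonoidHom).toZModLinearMap p
  have htfun : ∀ g x, ((Additive.toMul (tfun g x) : Ab) : G ⧸ Z) =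
      π g * (Additive.toMul x : Ab) * (π g)⁻¹ :=
    fun g x => MulAut.conjNormal_apply _ _
  have hext : ∀ x y : Additive Ab,
      ((Additive.toMul x : Ab) : G ⧸ Z) = (Additive.toMul y : Ab) → x = y :=
    fun x y h => Additive.toMul.injective (Subtype.ext h)
  let T : G →* Module.End (ZMod p) (Additive Ab) :=
    { toFun := tfun
      map_one' := LinearMap.ext fun x => hext _ _ (by rw [htfun, map_one]; simp)
      map_mul' := fun g h => LinearMap.ext fun x => hext _ _ (by
        rw [Module.End.mul_apply, htfun, htfun, htfun, map_mul]; group) }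
  have hTB : ∀ g x y, B (T g x) (T g y) = B x y := by
    intro g x y
    refine he_inj ((?_ : Tw ρ (g * l x * g⁻¹) (g * l y * g⁻¹) _).unique ((hB_l x y).conj g))
    have hx : g * l x * g⁻¹ ∈ A := hAn.conj_mem _ (hlA x) g
    have hy : g * l y * g⁻¹ ∈ A := hAn.conj_mem _ (hlA y) g
    have h := hB_tw _ hx _ hy
    have e1 : ∀ z hz, cls (g * l z * g⁻¹) hz = T g z := fun z hz => hext _ _ (by
      show π (g * l z * g⁻¹) = _
      rw [show T g = tfun g from rfl, htfun, map_mul, map_mul, map_inv, hl])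
    rwa [e1, e1] at h
  let f : G →* Matrix.symplecticGroup (Fin n) (ZMod p) :=
    { toFun := fun g => ⟨LinearMap.toMatrixAlgEquiv E (T g), by
        rw [SymplecticGroup.mem_iff', ← hJ]
        have h := LinearMap.BilinForm.toMatrix_comp E E B (T g) (T g)
        rw [show B.comp (T g) (T g) = B from LinearMap.ext₂ (hTB g)] at h
        exact h.symm⟩
      map_one' := Subtype.ext (by simp)
      map_mul' := fun g h => Subtype.ext (by simp) }
  have hirr : ∀ U : Submodule (ZMod p) (Fin n ⊕ Fin n → ZMod p), (∀ x ∈ f.range, ∀ u ∈ U,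
      Matrix.mulVec ((x : Matrix.symplecticGroup (Fin n) (ZMod p)) :
        Matrix (Fin n ⊕ Fin n) (Fin n ⊕ Fin n) (ZMod p)) u ∈ U) → U = ⊥ ∨ U = ⊤ := by
    intro U hU
    let U' := U.comap (E.equivFun : Additive Ab →ₗ[ZMod p] _)
    have hU' : ∀ g, ∀ x ∈ U', T g x ∈ U' := by
      intro g x hx
      have h := hU (f g) ⟨g, rfl⟩ _ hx
      have e1 : Matrix.mulVec (LinearMap.toMatrixAlgEquiv E (T g)) (E.equivFun x) =
          E.equivFun (T g x) := by
        rw [Module.Basis.equivFun_apply, Module.Basis.equivFun_apply]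
        exact LinearMap.toMatrix_mulVec_repr E E (T g) x
      show E.equivFun (T g x) ∈ U
      rw [← e1]
      exact h
    let K : Subgroup (G ⧸ Z) := (Subgroup.map Ab.subtype
      { carrier := {y | Additive.ofMul y ∈ U'}
        one_mem' := U'.zero_mem
        mul_mem' := fun ha hb => U'.add_mem ha hb
        inv_mem' := fun ha => U'.neg_mem ha })
    have hK : K.Normal := ⟨by
      rintro _ ⟨y, hy, rfl⟩ q
      obtain ⟨g, rfl⟩ := QuotientGroup.mk'_surjective Z q
      exact ⟨MulAut.conjNormal (π g) y, hU' g _ hy, MulAut.conjNormal_apply _ _⟩⟩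
    rcases hAb.eq_bot_or_eq hK (Subgroup.map_subtype_le _) with h | h
    · refine Or.inl ((Submodule.eq_bot_iff _).2 fun u hu => ?_)
      obtain ⟨x, rfl⟩ := E.equivFun.surjective u
      have hx : ((Additive.toMul x : Ab) : G ⧸ Z) ∈ K := ⟨Additive.toMul x, hu, rfl⟩
      rw [h, Subgroup.mem_bot] at hx
      rw [show x = 0 from hext _ _ hx, map_zero]
    · refine Or.inr (eq_top_iff.2 fun u _ => ?_)
      obtain ⟨x, rfl⟩ := E.equivFun.surjective u
      obtain ⟨y, hy, hyx⟩ : ((Additive.toMul x : Ab) : G ⧸ Z) ∈ K :=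
        h.symm ▸ (Additive.toMul x).2
      obtain rfl : y = Additive.toMul x := Subtype.ext hyx
      exact hy
  -- the centraliser of the layer
  set C := Subgroup.centralizer (A : Set G) with hC
  haveI hCn : C.Normal := inferInstance
  have hgen : ∀ g ∈ f.ker, ∃ a ∈ fittingSubgroup G, a⁻¹ * g ∈ C := by
    intro g hg
    have hT1 : T g = 1 := by
      refine (LinearMap.toMatrixAlgEquiv E).injective ?_
      rw [map_one]
      exact congrArg Subtype.val (MonoidHom.mem_ker.1 hg)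
    have hgA : ∀ a ∈ A, ⁅g, a⁆ ∈ Z := fun a ha => by
      rw [← QuotientGroup.eq_one_iff]
      show π ⁅g, a⁆ = 1
      rw [map_commutatorElement, commutatorElement_eq_one_iff_mul_comm, ← mul_inv_eq_iff_eq_mul]
      have h := htfun g (cls a ha)
      rw [show tfun g = T g from rfl, hT1, Module.End.one_apply] at h
      exact h.symm
    obtain ⟨ψ, hψ⟩ := hfun g hgA
    obtain ⟨x, hx⟩ : ∃ x, B x = -ψ := by
      refine ⟨∑ i, (-ψ (E (Sum.inl i))) • E (Sum.inr i) + ∑ i, ψ (E (Sum.inr i)) • E (Sum.inl i),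
        E.ext ?_⟩
      rintro (j | j) <;>
        simp [map_sum, LinearMap.sum_apply, hrl, hlr, hll, hrr]
    refine ⟨(l x)⁻¹, inv_mem (hAF (hlA x)), ?_⟩
    rw [inv_inv]
    refine Subgroup.mem_centralizer_iff.2 fun a ha => ?_
    have h := (hB_tw _ (hlA x) a ha).mul_left (hψ a ha)
    rw [hlcls, hx, LinearMap.neg_apply, ← he_add, neg_add_cancel, he0] at h
    exact (h.commute hρ).eq.symm
  -- weights of a maximal commuting part
  have hμ : ∀ i, ∃ μ : ℂ, μ ≠ 0 ∧ ρ (l (E (Sum.inr i))) ^ p = μ ^ p • (1 : Module.End ℂ V) := by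
    intro i
    obtain ⟨z, hz⟩ := hZmem.1 (hpowA _ (hlA (E (Sum.inr i))))
    obtain ⟨μ, hμ⟩ := IsAlgClosed.exists_pow_nat_eq z hp.pos
    refine ⟨μ, fun h0 => ?_, by rw [← map_pow, hz, hμ]⟩
    rw [h0, zero_pow hp.ne_zero] at hμ
    exact FgsC.HallHigman.rho_mul_left_ne_zero (ρ := ρ) _ (by rw [hz, ← hμ, zero_smul])
  choose μ hμ0 hμp using hμ
  let F : Fin n → Module.End ℂ V := fun i => (μ i)⁻¹ • ρ (l (E (Sum.inr i)))
  have hFc : ∀ i j, Commute (F i) (F j) := fun i j =>
    (((hcomm0 _ _ (hrr i j)).map ρ).smul_left _).smul_right _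
  have hFp : ∀ i, F i ^ p = 1 := fun i => by
    rw [smul_pow, hμp, smul_smul, inv_pow, inv_mul_cancel₀ (pow_ne_zero _ (hμ0 i)), one_smul]
  let W : (Fin n → ZMod p) → Submodule ℂ V := fun χ => AltSection.wsp F ω χ
  have hmemW : ∀ {χ v}, v ∈ W χ ↔ ∀ i, F i v = e (χ i) • v := AltSection.mem_wsp
  have hsum := AltSection.finrank_eq_sum_wsp (k := ℂ) (Nat.cast_ne_zero.2 hp.ne_zero) F hω hFc hFp
  have htop := AltSection.wsp_iSup (k := ℂ) (Nat.cast_ne_zero.2 hp.ne_zero) F hω hFc hFp
  -- the translates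
  let a : (Fin n → ZMod p) → G := fun δ => l (∑ i, δ i • E (Sum.inl i))
  have hshift : ∀ δ i v, F i (ρ (a δ) v) = e (δ i) • ρ (a δ) (F i v) := by
    intro δ i v
    have hBv : B (E (Sum.inr i)) (∑ j, δ j • E (Sum.inl j)) = δ i := by
      simp [map_sum, hrl]
    have h := hB_l (E (Sum.inr i)) (∑ j, δ j • E (Sum.inl j))
    rw [hBv, Tw, map_mul, map_mul] at h
    have h' := LinearMap.congr_fun h v
    simp only [Module.End.mul_apply, LinearMap.smul_apply] at h'
    simp only [F, a, LinearMap.smul_apply, h', map_smul, smul_smul, mul_comm]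
  have htr : ∀ δ χ, ∀ v ∈ W χ, ρ (a δ) v ∈ W (χ + δ) := fun δ χ v hv => hmemW.2 fun i => by
    rw [hshift, hmemW.1 hv i, map_smul, smul_smul, ← he_add, add_comm, Pi.add_apply]
  have hinj : ∀ g : G, Function.Injective (ρ g) := fun g =>
    Function.LeftInverse.injective (g := ρ g⁻¹) (FgsC.HallHigman.rho_apply_inv (ρ := ρ) g)
  have hmapW : ∀ δ χ, (W χ).map (ρ (a δ)) ≤ W (χ + δ) := fun δ χ => by
    rintro _ ⟨v, hv, rfl⟩; exact htr δ χ v hv
  have hfr : ∀ δ χ, Module.finrank ℂ (W χ) ≤ Module.finrank ℂ (W (χ + δ)) := fun δ χ => by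
    exact (Submodule.equivMapOfInjective (ρ (a δ)) (hinj _) (W χ)).finrank_eq.trans_le
      (Submodule.finrank_mono (hmapW δ χ))
  have heq : ∀ χ, Module.finrank ℂ (W χ) = Module.finrank ℂ (W 0) := fun χ =>
    le_antisymm (by have h := hfr (-χ) χ; rwa [add_neg_cancel] at h)
      (by have h := hfr χ 0; rwa [zero_add] at h)
  set s := Module.finrank ℂ (W 0) with hs
  have hdim : Module.finrank ℂ V = p ^ n * s := by
    rw [hsum, Finset.sum_congr rfl fun χ _ => heq χ, Finset.sum_const, Finset.card_univ,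
      Fintype.card_fun, ZMod.card, Fintype.card_fin, smul_eq_mul]
  have hs1 : 1 ≤ s := by
    have h := Module.finrank_pos (R := ℂ) (M := V)
    rw [hdim] at h
    exact Nat.pos_of_mul_pos_left h
  have hq : 2 ≤ p ^ n := hp.two_le.trans (Nat.le_self_pow (by omega) p)
  have hlt : s < Module.finrank ℂ V := by
    rw [hdim]; exact lt_mul_of_one_lt_left (by omega) (by omega)
  -- the centraliser acts faithfully on one weight space
  have hCW : ∀ (c : C), ∀ v ∈ W 0, ρ c v ∈ W 0 := fun c v hv => hmemW.2 fun i => by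
    have hc : Commute (l (E (Sum.inr i))) (c : G) :=
      Subgroup.mem_centralizer_iff.1 c.2 _ (hlA _)
    have h' := LinearMap.congr_fun (hc.map ρ).eq v
    simp only [Module.End.mul_apply] at h'
    rw [← map_smul, ← hmemW.1 hv i]
    simp only [F, LinearMap.smul_apply, map_smul, h']
  have hfaith : Function.Injective (restr (ρ.comp C.subtype) (W 0) hCW) := by
    intro c c' hcc
    refine Subtype.ext (hρ (LinearMap.ext fun v => ?_))
    suffices h : ⨆ χ, W χ ≤ LinearMap.eqLocus (ρ (c : G)) (ρ (c' : G)) from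
      h (htop.symm ▸ Submodule.mem_top)
    refine iSup_le fun χ u hu => ?_
    have hsurj : (W 0).map (ρ (a χ)) = W χ := by
      refine Submodule.eq_of_le_of_finrank_eq (by simpa using hmapW χ 0) ?_
      rw [← (Submodule.equivMapOfInjective _ (hinj _) (W 0)).finrank_eq]
      exact (heq χ).symm
    obtain ⟨w, hw, rfl⟩ : u ∈ (W 0).map (ρ (a χ)) := hsurj.symm ▸ hu
    have hc : ∀ d : C, ρ (d : G) (ρ (a χ) w) = ρ (a χ) (ρ (d : G) w) := fun d => by
      rw [FgsC.HallHigman.rho_mul_apply, FgsC.HallHigman.rho_mul_apply,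
        Subgroup.mem_centralizer_iff.1 d.2 _ (hlA _)]
    show ρ (c : G) _ = ρ (c' : G) _
    rw [hc, hc]
    exact congrArg (ρ (a χ)) (congrArg Subtype.val (LinearMap.congr_fun hcc ⟨w, hw⟩))
  have hCb := hB s hlt C (W 0) _ hfaith inferInstance hs.symm
  have hX : MaxK f.range (3 ^ (p ^ n - 1)) :=
    hSp p n f.range hn (Group.isSolvable_of_surjective f.rangeRestrict_surjective) hirr
  refine (maxK_step f C hgen hCb hX).mono ?_
  rw [← pow_add, hdim]
  refine Nat.pow_le_pow_right (by norm_num) ?_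
  obtain ⟨t, ht⟩ : ∃ t, s = t + 1 := ⟨s - 1, by omega⟩
  obtain ⟨u, hu⟩ : ∃ u, p ^ n = u + 1 := ⟨p ^ n - 1, by omega⟩
  rw [ht, hu, Nat.add_sub_cancel, Nat.add_sub_cancel]
  have : (u + 1) * (t + 1) = u * t + u + t + 1 := by ring
  omega

end CfsgLib.SolvClasses
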